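import Cfsg.Agent.H6.He.Frames
import Cfsg.Agent.H5.Small
import Cfsg.Agent.H4.LfTrans

/-!
# The row of the Held group (helper6)

* `RowD P G`: for every Sylow 2-subgroup `T` of `G` and `L ∈ ℒ(G, T)`: `L ⊔ T ≤ N(L)` and `P (L / O₂(L))`;
  `RowD.congr`, `RowD.of_one`;
* `row_he (h : Spor.IsoHe G) : RowD HeQ G`, `HeQ X : X ≃ L₃(2)` or `X` is `Â₆`.
-/

set_option autoImplicit false

namespace Cfsg.Agent.H6.HeRow

open Subgroup Cfsg Cfsg.Agent.SporadicRecognition.HeldModel Cfsg.Agent.H6.HeOver Cfsg.Agent.KFacts.He.Hyp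
  Cfsg.Agent.H6.HexW

universe u v

/-- for every Sylow 2-subgroup `T` of `G` and `L ∈ ℒ(G, T)`: `L ⊔ T ≤ N(L)` and `P (L / O₂(L))` -/
def RowD (P : ∀ (X : Type u) [Group X], Prop) (G : Type u) [Group G] : Prop :=
  ∀ (S : Sylow 2 G), ∀ L ∈ calL (S : Subgroup G), L ⊔ (S : Subgroup G) ≤ normalizer (L : Set G) ∧ P (L ⧸ Cfsg.pCore 2 L)

/-- transport of the normalizer condition -/
theorem norm_map {G : Type u} {K : Type v} [Group G] [Group K] (e : G ≃* K) {L S : Subgroup G}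
    (h : (L.map e.toMonoidHom) ⊔ (S.map e.toMonoidHom) ≤ normalizer ((L.map e.toMonoidHom : Subgroup K) : Set K)) :
    L ⊔ S ≤ normalizer (L : Set G) := by
  intro x hx
  have h3 : e x ∈ normalizer ((L.map e.toMonoidHom : Subgroup K) : Set K) := by
    apply h
    rw [← Subgroup.map_sup]
    exact ⟨x, hx, rfl⟩
  rw [Subgroup.mem_normalizer_iff] at h3 ⊢
  intro y
  have h4 : ∀ z : G, z ∈ L ↔ e z ∈ L.map e.toMonoidHom := fun z =>
    ⟨fun hz => ⟨z, hz, rfl⟩, fun ⟨z', hz', he⟩ => e.injective he ▸ hz'⟩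
  rw [h4, h4, map_mul, map_mul, map_inv]
  exact h3 (e y)

theorem RowD.congr {P : ∀ (X : Type u) [Group X], Prop} {Q : ∀ (X : Type v) [Group X], Prop}
    (hP : ∀ (X : Type u) [Group X] (Y : Type v) [Group Y], (X ≃* Y) → Q Y → P X) {G : Type u} {K : Type v} [Group G] [Group K]
    [Finite G] (e : G ≃* K) (hK : RowD Q K) : RowD P G := by
  intro S L hL
  have h1 : L.map e.toMonoidHom ∈ calL ((H4.LfTrans.mapSylow e S : Subgroup K)) := by
    rw [H4.LfTrans.coe_mapSylow]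
    exact H4.LfTrans.map_mem_calL e hL
  obtain ⟨h2, h3⟩ := hK _ _ h1
  rw [H4.LfTrans.coe_mapSylow] at h2
  refine ⟨norm_map e h2, hP _ _ ?_ h3⟩
  exact QuotientGroup.congr _ _ (e.subgroupMap L) (Lib.Cores.map_equiv_pCore _ 2)

theorem RowD.of_one {P : ∀ (X : Type u) [Group X], Prop}
    (hP : ∀ (X : Type u) [Group X] (Y : Type u) [Group Y], (X ≃* Y) → P Y → P X) {G : Type u} [Group G] [Finite G]
    (S₀ : Sylow 2 G)
    (h : ∀ L ∈ calL (S₀ : Subgroup G), L ⊔ (S₀ : Subgroup G) ≤ normalizer (L : Set G) ∧ P (L ⧸ Cfsg.pCore 2 L)) :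
    RowD P G := by
  intro S L hL
  obtain ⟨g, hg⟩ := H4.LfTrans.exists_conj S S₀
  have h1 : L.map (MulAut.conj g).toMonoidHom ∈ calL (S₀ : Subgroup G) := by
    rw [hg]
    exact H4.LfTrans.map_mem_calL (MulAut.conj g) hL
  obtain ⟨h2, h3⟩ := h _ h1
  rw [hg] at h2
  refine ⟨norm_map (MulAut.conj g) h2, hP _ _ ?_ h3⟩
  exact QuotientGroup.congr _ _ ((MulAut.conj g).subgroupMap L) (Lib.Cores.map_equiv_pCore _ 2)

/-- `X` is `L₃(2)` or `Â₆` -/
def HeQ (X : Type u) [Group X] : Prop :=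
  Nonempty (X ≃* Matrix.ProjectiveSpecialLinearGroup (Fin 3) (ZMod 2)) ∨ IsHatA6 X

theorem HeQ.congr (X : Type u) [Group X] (Y : Type v) [Group Y] (e : X ≃* Y) (h : HeQ Y) : HeQ X := by
  rcases h with ⟨⟨f⟩⟩ | h
  · exact Or.inl ⟨e.trans f⟩
  · exact Or.inr (HatSix.HatIso.congr e.symm h)

/-- the involution centralizer of a group with `Hyp` -/
theorem centralizer_row {G : Type*} [Group G] [Finite G] {z : G} {ι : CC →* G} (hy : Hyp z ι) (T : Sylow 2 G)
    {L : Subgroup G} (hL : L ∈ calL (T : Subgroup G)) (hT : (T : Subgroup G) ≤ centralizer {z})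
    (hLz : L ≤ centralizer {z}) : L ⊔ (T : Subgroup G) ≤ normalizer (L : Set G) ∧ HeQ (L ⧸ Cfsg.pCore 2 L) := by
  let ψ : centralizer ({z} : Set G) →* L3 := toL3.comp hy.equiv.symm.toMonoidHom
  have hker : IsPGroup 2 ψ.ker := by
    have h1 : IsPGroup 2 toL3.ker := by
      rw [toL3_ker]
      have h2 : IsPGroup 2 QQ := IsPGroup.of_card (n := 7) (by rw [card_QQ]; norm_num)
      intro x
      obtain ⟨k, hk⟩ := h2 ⟨((x : CC) : L5), x.2⟩
      refine ⟨k, ?_⟩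
      have h3 := congrArg Subtype.val hk
      apply Subtype.ext
      apply Subtype.ext
      exact h3
    intro x
    have hx : hy.equiv.symm (x : centralizer ({z} : Set G)) ∈ toL3.ker := x.2
    obtain ⟨k, hk⟩ := h1 ⟨_, hx⟩
    refine ⟨k, ?_⟩
    have h3 : (hy.equiv.symm (x : centralizer ({z} : Set G))) ^ 2 ^ k = 1 := congrArg Subtype.val hk
    rw [← map_pow] at h3
    have h4 := (MulEquiv.map_eq_one_iff _).1 h3
    exact Subtype.ext h4
  have hd : Nat.card ψ.range ∣ 168 := by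
    rw [← card_L3]
    exact Subgroup.card_subgroup_dvd_card _
  obtain ⟨h1, -, h2, -⟩ := H5.Small.row168 T hL hT hLz ψ hker hd
  exact ⟨h1, Or.inl h2⟩

/-- **The row of the Held group.** -/
theorem row : RowD HeQ Cfsg.Spor.He := by
  obtain ⟨T, hT⟩ := exists_sylow hyp
  refine RowD.of_one HeQ.congr T ?_
  intro L hL
  have hne : Cfsg.pCore 2 ↥(L ⊔ (T : Subgroup Cfsg.Spor.He)) ≠ ⊥ := hL.2.2
  have hTH : (T : Subgroup Cfsg.Spor.He) ≤ L ⊔ (T : Subgroup Cfsg.Spor.He) := le_sup_right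
  have hLH : L ≤ L ⊔ (T : Subgroup Cfsg.Spor.He) := le_sup_left
  rcases HeWords.ctx.over hT hTH hne with h | h | h
  · exact centralizer_row hyp T hL (hTH.trans h) (hLH.trans h)
  · obtain ⟨h1, h2, -⟩ := HeFrames.frame1.row T hL (hTH.trans h) (hLH.trans h)
    exact ⟨h1, Or.inr h2⟩
  · obtain ⟨h1, h2, -⟩ := HeFrames.frame2.row T hL (hTH.trans h) (hLH.trans h)
    exact ⟨h1, Or.inr h2⟩

/-- **The row of a group isomorphic to the Held group.** -/
theorem row_he {G : Type u} [Group G] [Finite G] (h : Spor.IsoHe G) : RowD HeQ G := by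
  obtain ⟨e⟩ := h
  exact RowD.congr (fun X _ Y _ f hY => HeQ.congr X Y f hY) e row

theorem he_mem {G : Type u} [Group G] [Finite G] (h : Spor.IsoHe G) (T : Sylow 2 G) {L : Subgroup G}
    (hL : L ∈ calL (T : Subgroup G)) : (T : Subgroup G) ≤ normalizer (L : Set G) ∧
      (Nonempty ((L ⧸ Cfsg.pCore 2 L) ≃* Matrix.ProjectiveSpecialLinearGroup (Fin 3) (ZMod 2)) ∨
        IsHatA6 (L ⧸ Cfsg.pCore 2 L)) :=
  ⟨le_sup_right.trans (row_he h T L hL).1, (row_he h T L hL).2⟩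

end Cfsg.Agent.H6.HeRow
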