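import Cfsg.Agent.KFacts.TwoSix.Normal
import Cfsg.Agent.KFacts.TwoSix.U
import Cfsg.Agent.SporadicRecognition.HeldInv

/-!
# Normal elementary abelian subgroups of the unitriangular group `T0` of degree 5 containing `zz` (helper6)

`Nrm A`: `A ≤ T0` is normalised by `T0` and has exponent 2.
* `Nrm.le_or`: if `A` has no element with entry `(0, 1)` or `(3, 4)`, then `A ≤ V1` or `A ≤ V2`;
* `Nrm.QQ_of`: elements with entry `(0, 1)` lie in `QQ`;  `Nrm.R1_le`: if one of them lies in `R1`, then `R1 ≤ A`;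
* `Nrm.dich`: `A ≤ V1`: `C_CC(A)` normalises `V1`, or `A = ⟨x03, x04⟩`.
-/

set_option autoImplicit false

namespace Cfsg.Agent.H6.HeElt

open Cfsg.Agent.SporadicRecognition.HeldModel Cfsg.Agent.KFacts.TwoSix.Base Cfsg.Agent.KFacts.TwoSix.Facts
open Cfsg.Agent.Lib.F2Mat Cfsg.Agent.KFacts.TwoSix.U

abbrev mt (g : L5) : Matrix (Fin 5) (Fin 5) (ZMod 2) := (g : Matrix (Fin 5) (Fin 5) (ZMod 2))

/-! ### Entries -/

theorem CC_col {g : L5} (hg : g ∈ CC) {i : Fin 5} (hi : i ≠ 0) : mt g i 0 = 0 := by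
  have h := CC_entry hg (i := i) (j := 0) (by simp [PC])
  rwa [Matrix.one_apply_ne hi] at h

theorem CC_00 {g : L5} (hg : g ∈ CC) : mt g 0 0 = 1 := by
  have h := CC_entry hg (i := 0) (j := 0) (by simp [PC])
  rwa [Matrix.one_apply_eq] at h

theorem CC_row {g : L5} (hg : g ∈ CC) {j : Fin 5} (hj : j ≠ 4) : mt g 4 j = 0 := by
  have h := CC_entry hg (i := 4) (j := j) (by simp [PC])
  rwa [Matrix.one_apply_ne (Ne.symm hj)] at h

theorem pat_entry {P : Fin 5 → Fin 5 → Bool} {g : L5} (hg : Pat P g) {i j : Fin 5} (h : P i j = false) :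
    mt g i j = (1 : Matrix (Fin 5) (Fin 5) (ZMod 2)) i j := by
  have := hg i j h
  rwa [Matrix.sub_apply, sub_eq_zero] at this

theorem V1_entry {g : L5} (hg : g ∈ V1) {i j : Fin 5} (h : PV1 i j = false) :
    mt g i j = (1 : Matrix (Fin 5) (Fin 5) (ZMod 2)) i j := pat_entry hg h

theorem T0_entry {g : L5} (hg : g ∈ T0) {i j : Fin 5} (h : PT i j = false) :
    mt g i j = (1 : Matrix (Fin 5) (Fin 5) (ZMod 2)) i j := pat_entry hg h

theorem mul_entry {g u : L5} (hc : g * u = u * g) (i j : Fin 5) : (mt g * mt u) i j = (mt u * mt g) i j := by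
  have h1 : mt (g * u) = mt (u * g) := by rw [hc]
  have h2 : mt (g * u) = mt g * mt u := rfl
  have h3 : mt (u * g) = mt u * mt g := rfl
  rw [← h2, ← h3, h1]

/-- the entries `(2, 1)` and `(3, 1)` vanish -/
def Up (g : L5) : Prop := mt g 2 1 = 0 ∧ mt g 3 1 = 0

theorem low_zero {g : L5} (hg : g ∈ CC) (h : Up g) {i j : Fin 5} (hi : 2 ≤ i) (hj : j ≤ 1) : mt g i j = 0 := by
  have hj' : j = 0 ∨ j = 1 := by revert hj; revert j; decide
  rcases hj' with rfl | rfl
  · exact CC_col hg (by rintro rfl; exact absurd hi (by decide))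
  · have hi' : i = 2 ∨ i = 3 ∨ i = 4 := by revert hi; revert i; decide
    rcases hi' with rfl | rfl | rfl
    · exact h.1
    · exact h.2
    · exact CC_row hg (by decide)

theorem conj_sub (g v : L5) : mt (g * v * g⁻¹) - 1 = mt g * (mt v - 1) * mt g⁻¹ := by
  have h1 : mt (g * v * g⁻¹) = mt g * mt v * mt g⁻¹ := rfl
  have h2 : mt g * mt g⁻¹ = 1 := by
    calc mt g * mt g⁻¹ = mt (g * g⁻¹) := rfl
      _ = mt 1 := by rw [mul_inv_cancel]
      _ = 1 := rfl
  rw [h1, mul_sub, sub_mul, mul_one, h2]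

/-- block upper triangular elements of `CC` normalise `V1` -/
theorem conj_V1 {g v : L5} (hg : g ∈ CC) (h1 : Up g) (h2 : Up g⁻¹) (hv : v ∈ V1) : g * v * g⁻¹ ∈ V1 := by
  intro i j hij
  rw [← mt, conj_sub, Matrix.mul_apply]
  apply Finset.sum_eq_zero
  intro l _
  by_cases hl : l ≤ 1
  · have h3 : (mt g * (mt v - 1)) i l = 0 := by
      rw [Matrix.mul_apply]
      apply Finset.sum_eq_zero
      intro k _
      have h4 : (mt v - 1) k l = 0 := hv k l (by
        have : ¬ (2 ≤ l) := fun h => absurd (h.trans hl) (by decide)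
        simp [PV1, this])
      rw [h4, mul_zero]
    rw [h3, zero_mul]
  · by_cases hi : 2 ≤ i
    · have h3 : (mt g * (mt v - 1)) i l = 0 := by
        rw [Matrix.mul_apply]
        apply Finset.sum_eq_zero
        intro k _
        by_cases hk : k ≤ 1
        · rw [low_zero hg h1 hi hk, zero_mul]
        · have h4 : (mt v - 1) k l = 0 := hv k l (by simp [PV1, hk])
          rw [h4, mul_zero]
      rw [h3, zero_mul]
    · have hj : j ≤ 1 := by
        by_contra hj
        have h5 : i ≤ 1 := (by decide : ∀ i : Fin 5, ¬ 2 ≤ i → i ≤ 1) i hi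
        have h6 : 2 ≤ j := (by decide : ∀ i : Fin 5, ¬ i ≤ 1 → 2 ≤ i) j hj
        simp [PV1, h5, h6] at hij
      have hl' : 2 ≤ l := (by decide : ∀ i : Fin 5, ¬ i ≤ 1 → 2 ≤ i) l hl
      rw [low_zero (CC.inv_mem hg) h2 hl' hj, mul_zero]

/-- `g` commutes with `u ∈ V1` having a non-zero entry in row 1 -/
theorem up_of_comm {g u : L5} (hg : g ∈ CC) (hu : u ∈ V1) {j : Fin 5} (hj : mt u 1 j = 1) (hj2 : 2 ≤ j)
    (hc : g * u = u * g) : Up g := by
  have key : ∀ i : Fin 5, 2 ≤ i → mt g i 1 = 0 := by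
    intro i hi
    have h1 := mul_entry hc i j
    rw [Matrix.mul_apply, Matrix.mul_apply] at h1
    have h2 : ∑ k, mt u i k * mt g k j = mt g i j := by
      rw [Finset.sum_eq_single i]
      · rw [V1_entry hu (by
          have : ¬ (i ≤ 1) := fun h => absurd (hi.trans h) (by decide)
          simp [PV1, this]), Matrix.one_apply_eq, one_mul]
      · intro k _ hk
        rw [V1_entry hu (by
          have : ¬ (i ≤ 1) := fun h => absurd (hi.trans h) (by decide)
          simp [PV1, this]), Matrix.one_apply_ne (Ne.symm hk), zero_mul]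
      · intro h; exact absurd (Finset.mem_univ _) h
    have h3 : ∑ k, mt g i k * mt u k j = mt g i 1 + mt g i j := by
      rw [Finset.sum_eq_add (1 : Fin 5) j (by rintro rfl; exact absurd hj2 (by decide))]
      · rw [hj, mul_one, V1_entry hu (by
          have : ¬ (j ≤ 1) := fun h => absurd (hj2.trans h) (by decide)
          simp [PV1, this]), Matrix.one_apply_eq, mul_one]
      · intro k _ hk
        by_cases hk0 : k = 0
        · rw [hk0, CC_col hg (by rintro rfl; exact absurd hi (by decide)), zero_mul]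
        · rw [V1_entry hu (by
            have : ¬ (k ≤ 1) := (by decide : ∀ k : Fin 5, k ≠ 1 → k ≠ 0 → ¬ k ≤ 1) k hk.1 hk0
            simp [PV1, this]), Matrix.one_apply_ne hk.2, mul_zero]
      · intro h; exact absurd (Finset.mem_univ _) h
      · intro h; exact absurd (Finset.mem_univ _) h
    rw [h2, h3] at h1
    exact left_eq_add.1 ((add_comm _ _).trans h1).symm |> fun h => h
  exact ⟨key 2 (by decide), key 3 (by decide)⟩

/-- `g` commutes with `u ∈ R1 ∩ V1` having a non-zero entry `(0, 2)` and with `x03` -/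
theorem up_of_two {g u : L5} (hg : g ∈ CC) (hu : u ∈ R1) (h01 : mt u 0 1 = 0) (h02 : mt u 0 2 = 1)
    (hc : g * u = u * g) (h3 : g * x 0 3 = x 0 3 * g) : Up g := by
  have e3 := comm_x (i := 0) (j := 3) (by decide) h3 0 1
  rw [if_neg (by decide), if_pos rfl] at e3
  have e31 : mt g 3 1 = 0 := e3.symm
  have hu1 : ∀ i j : Fin 5, i ≠ 0 → mt u i j = (1 : Matrix (Fin 5) (Fin 5) (ZMod 2)) i j := fun i j hi =>
    pat_entry hu (by simp [PR1, hi])
  have h1 := mul_entry hc 0 1
  rw [Matrix.mul_apply, Matrix.mul_apply, Fin.sum_univ_five, Fin.sum_univ_five, h01, h02, hu1 1 1 (by decide),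
    hu1 2 1 (by decide), hu1 3 1 (by decide), hu1 4 1 (by decide), e31, CC_row hg (j := 1) (by decide)] at h1
  have h00 : mt u 0 0 = 1 := by
    have := pat_entry hu (i := 0) (j := 0) (by decide)
    rwa [Matrix.one_apply_eq] at this
  rw [h00] at h1
  simp at h1
  exact ⟨h1, e31⟩

/-! ### Checks in `T0` -/

theorem ent_eq {g : L5} {i j : Fin 5} : ent g i j = true ↔ mt g i j = 1 := by
  unfold ent
  rw [decide_eq_true_iff]

theorem ent_false {g : L5} {i j : Fin 5} : ent g i j = false ↔ mt g i j = 0 := by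
  unfold ent
  rw [decide_eq_false_iff_not]
  constructor
  · intro h
    exact (zmod2_cases _).resolve_right h
  · intro h h1
    have h2 : (0 : ZMod 2) = 1 := h.symm.trans h1
    exact absurd h2 (by decide)

/-- bit test -/
def bt (X p : ℕ) : Bool := Nat.beq (Nat.land (Nat.shiftRight X p) 1) 1

theorem bt_eq (X p : ℕ) : bt X p = X.testBit p := by
  unfold bt
  rw [Nat.testBit, Bool.eq_iff_iff]
  have h1 : Nat.land (Nat.shiftRight X p) 1 = (X >>> p) % 2 := by
    show (X >>> p) &&& 1 = _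
    rw [Nat.and_one_is_mod]
  rw [h1]
  have h2 : (1 &&& X >>> p) = (X >>> p) % 2 := by rw [Nat.and_comm, Nat.and_one_is_mod]
  rw [h2]
  have h3 : (X >>> p) % 2 < 2 := Nat.mod_lt _ (by norm_num)
  generalize (X >>> p) % 2 = n at h3 ⊢
  interval_cases n <;> decide

theorem bt_cd (g : L5) (i j : Fin 5) : bt (cd g) (5 * i + j) = ent g i j := by
  rw [bt_eq, testBit_cd]

theorem chk_V : allR (fun a => force (tc a) fun X => !(sqB X) || (bt X 1 || (bt X 19 || (inPf mV1 X || inPf mV2 X))))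
    10 0 = true := by decide +kernel

/-- the code of `x12 x34` -/
def ctt : ℕ := 17567937

theorem chk_Q : allR (fun a => force (tc a) fun X => !(sqB X) || (!(bt X 1) || (inPf mQ X ||
    !(force (mul 5 (mul 5 ctt X) ctt) fun Y => commB X Y)))) 10 0 = true := by decide +kernel

theorem chk_R : allR (fun a => force (tc a) fun X => !(inPf mR1 X) || (!(bt X 1) ||
    (Nat.beq (mul 5 X (mul 5 (mul 5 17043649 X) 17043649)) 17043525 &&
      (Nat.beq (mul 5 X (mul 5 (mul 5 17043777 X) 17043777)) 17043529 &&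
        Nat.beq (mul 5 X (mul 5 (mul 5 17044033 X) 17044033)) 17043537)))) 10 0 = true := by decide +kernel

theorem chk_3 : allR (fun a => force (tc a) fun X => !(inPf mR1 X) || (bt X 1 || (!(bt X 2) ||
    Nat.beq (mul 5 X (mul 5 (mul 5 17051713 X) 17051713)) 17043529))) 10 0 = true := by decide +kernel

theorem chk_4 : allR (fun a => force (tc a) fun X => !(inPf mR1 X) || (bt X 1 || (bt X 2 ||
    (Nat.beq X 17043521 || (Nat.beq X 17043537 || (Nat.beq X 17043529 || Nat.beq X (mul 5 17043529 17043537)))))))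
    10 0 = true := by decide +kernel

theorem cdx (i j : Fin 5) (h : i ≠ j) : cd (x i j h) = 17043521 + 2 ^ (5 * (i : ℕ) + j) := by
  rw [cd_x, one_five]

/-- `x12 x34` -/
def tt : L5 := x 1 2 * x 3 4

theorem cd_tt : cd tt = ctt := by
  rw [tt, cd_mul, cdx, cdx]; decide +kernel

theorem tt_mem : tt ∈ T0 := T0.mul_mem (x_mem_T0 (by decide)) (x_mem_T0 (by decide))

theorem tt_inv : tt⁻¹ = tt := by
  apply inv_eq_of_mul_eq_one_left
  apply cd_inj
  rw [cd_mul, cd_tt, cd_one, one_five]; decide +kernel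

theorem cd_conj_x {i j : Fin 5} (h : i ≠ j) (u : L5) : cd (x i j h * u * (x i j h)⁻¹) =
    mul 5 (mul 5 (17043521 + 2 ^ (5 * (i : ℕ) + j)) (cd u)) (17043521 + 2 ^ (5 * (i : ℕ) + j)) := by
  rw [x_inv, cd_mul, cd_mul, cdx]

/-- `A ≤ T0` is normalised by `T0` and has exponent 2 -/
structure Nrm (A : Subgroup L5) : Prop where
  le : A ≤ T0
  norm : ∀ t ∈ T0, ∀ a ∈ A, t * a * t⁻¹ ∈ A
  sq : ∀ a ∈ A, a * a = 1

variable {A : Subgroup L5}

theorem Nrm.comm (hA : Nrm A) {a b : L5} (ha : a ∈ A) (hb : b ∈ A) : a * b = b * a := by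
  have hab := hA.sq _ (A.mul_mem ha hb)
  have haa := hA.sq a ha
  have hbb := hA.sq b hb
  calc a * b = a * (a * b * (a * b)) * b := by rw [hab, mul_one]
    _ = (a * a) * b * a * (b * b) := by group
    _ = b * a := by rw [haa, hbb, one_mul, mul_one]

theorem Nrm.mem_or (hA : Nrm A) {u : L5} (hu : u ∈ A) (h1 : mt u 0 1 = 0) (h2 : mt u 3 4 = 0) : u ∈ V1 ∨ u ∈ V2 := by
  obtain ⟨a, ha, hc⟩ := exists_tc (hA.le hu)
  have h := allR_zero chk_V a (by simpa using ha)
  have e1 : bt (cd u) 1 = false := by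
    have := bt_cd u 0 1
    rw [ent_false.2 h1] at this
    exact this
  have e2 : bt (cd u) 19 = false := by
    have := bt_cd u 3 4
    rw [ent_false.2 h2] at this
    exact this
  rw [force_eq, ← hc, sqB_iff.2 (hA.sq u hu), e1, e2, Bool.not_true, Bool.false_or, Bool.false_or, Bool.false_or,
    Bool.or_eq_true] at h
  rcases h with h | h
  · exact Or.inl (mem_V1_iff.2 h)
  · exact Or.inr (mem_V2_iff.2 h)

/-- a subgroup in the union of two subgroups -/
theorem le_or_of_mem {X : Type*} [Group X] {A B C : Subgroup X} (h : ∀ a ∈ A, a ∈ B ∨ a ∈ C) : A ≤ B ∨ A ≤ C := by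
  by_contra hcon
  rw [not_or, SetLike.not_le_iff_exists, SetLike.not_le_iff_exists] at hcon
  obtain ⟨⟨a, ha, ha1⟩, ⟨b, hb, hb2⟩⟩ := hcon
  have ha2 : a ∈ C := (h a ha).resolve_left ha1
  have hb1 : b ∈ B := (h b hb).resolve_right hb2
  rcases h _ (A.mul_mem ha hb) with h | h
  · exact ha1 (by simpa using B.mul_mem h (B.inv_mem hb1))
  · exact hb2 (by simpa using C.mul_mem (C.inv_mem ha2) h)

theorem Nrm.le_or (hA : Nrm A) (h : ∀ u ∈ A, mt u 0 1 = 0 ∧ mt u 3 4 = 0) : A ≤ V1 ∨ A ≤ V2 :=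
  le_or_of_mem fun u hu => hA.mem_or hu (h u hu).1 (h u hu).2

/-- elements with entry `(0, 1)` lie in `QQ` -/
theorem Nrm.QQ_of (hA : Nrm A) {u : L5} (hu : u ∈ A) (h1 : mt u 0 1 = 1) : u ∈ QQ := by
  obtain ⟨a, ha, hc⟩ := exists_tc (hA.le hu)
  have h := allR_zero chk_Q a (by simpa using ha)
  have e1 : bt (cd u) 1 = true := by
    have := bt_cd u 0 1
    rw [ent_eq.2 h1] at this
    exact this
  have h3 := hA.comm hu (hA.norm tt tt_mem u hu)
  rw [tt_inv] at h3
  have h5 : cd (tt * u * tt) = mul 5 (mul 5 ctt (cd u)) ctt := by rw [cd_mul, cd_mul, cd_tt]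
  rw [force_eq, ← hc, sqB_iff.2 (hA.sq u hu), e1, Bool.not_true, Bool.false_or, Bool.false_or,
    Bool.or_eq_true] at h
  rcases h with h | h
  · exact mem_QQ_iff.2 h
  · exfalso
    rw [force_eq, ← h5, commB_iff.2 h3] at h
    exact absurd h (by decide)

theorem Nrm.comm_mem (hA : Nrm A) {i j : Fin 5} (h : i < j) {u : L5} (hu : u ∈ A) :
    u * (x i j h.ne * u * (x i j h.ne)⁻¹) ∈ A := A.mul_mem hu (hA.norm _ (x_mem_T0 h) u hu)

/-- elements of `R1` without entry `(0, 1)` are generated by `x02`, `x03`, `x04` -/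
theorem mem_of_R1 (h2 : x 0 2 ∈ A) (h3 : x 0 3 ∈ A) (h4 : x 0 4 ∈ A) {y : L5} (hy : y ∈ R1) (h0 : mt y 0 1 = 0) :
    y ∈ A := by
  obtain ⟨f, rfl⟩ := mem_R1_low'.1 hy
  have hx : ∀ j : Fin 4, x 0 j.succ (Fin.succ_ne_zero j).symm = ro (Pi.single j 1) := by
    intro j
    apply ext_CC (x_mem _ (Fin.succ_ne_zero j) (by decide)) (ro_mem _)
    · rw [top_ro]
      funext k
      rw [top_apply, coe_x, transvection_apply', Pi.single_apply]
      revert j k; decide
    · rw [low_ro]
      ext i k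
      rw [low_apply, coe_x, transvection_apply', Matrix.one_apply]
      revert j i k; decide
  have hf0 : f 0 = 0 := by
    have h5 : top (ro f) 0 = mt (ro f) 0 1 := by rw [top_apply]; rfl
    rw [top_ro, h0] at h5
    exact h5
  let g : ZMod 2 → Fin 4 → F4 := fun c j => if c = 1 then Pi.single j 1 else 0
  have key : f = g (f 1) 1 + g (f 2) 2 + g (f 3) 3 := by
    funext j
    have h6 : ∀ c : ZMod 2, c = 0 ∨ c = 1 := zmod2_cases
    rcases h6 (f 1) with e1 | e1 <;> rcases h6 (f 2) with e2 | e2 <;> rcases h6 (f 3) with e3 | e3 <;>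
      fin_cases j <;> simp [g, e1, e2, e3, hf0, Pi.single_apply]
  have hg : ∀ c j, x 0 (Fin.succ j) (Fin.succ_ne_zero j).symm ∈ A → ro (g c j) ∈ A := by
    intro c j hj
    show ro (if c = 1 then Pi.single j 1 else 0) ∈ A
    split
    · rw [← hx]; exact hj
    · rw [ro_zero]; exact A.one_mem
  rw [key, ro_add, ro_add]
  exact A.mul_mem (A.mul_mem (hg _ 1 h2) (hg _ 2 h3)) (hg _ 3 h4)

/-- if `A` contains an element of `R1` with entry `(0, 1)`, then `R1 ≤ A` -/
theorem Nrm.R1_le (hA : Nrm A) {u : L5} (hu : u ∈ A) (hR : u ∈ R1) (h1 : mt u 0 1 = 1) : R1 ≤ A := by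
  obtain ⟨a, ha, hc⟩ := exists_tc (hA.le hu)
  have h := allR_zero chk_R a (by simpa using ha)
  have e1 : bt (cd u) 1 = true := by
    have := bt_cd u 0 1
    rw [ent_eq.2 h1] at this
    exact this
  rw [force_eq, ← hc, mem_R1_iff.1 hR, e1, Bool.not_true, Bool.false_or, Bool.false_or, Bool.and_eq_true,
    Bool.and_eq_true] at h
  obtain ⟨h2, h3, h4⟩ := h
  have k2 : u * (x 1 2 * u * (x 1 2)⁻¹) = x 0 2 := by
    apply cd_inj
    rw [cd_mul, cd_conj_x, cdx]
    exact Nat.eq_of_beq_eq_true h2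
  have k3 : u * (x 1 3 * u * (x 1 3)⁻¹) = x 0 3 := by
    apply cd_inj
    rw [cd_mul, cd_conj_x, cdx]
    exact Nat.eq_of_beq_eq_true h3
  have k4 : u * (x 1 4 * u * (x 1 4)⁻¹) = x 0 4 := by
    apply cd_inj
    rw [cd_mul, cd_conj_x, cdx]
    exact Nat.eq_of_beq_eq_true h4
  have m2 : x 0 2 ∈ A := by rw [← k2]; exact hA.comm_mem (by decide) hu
  have m3 : x 0 3 ∈ A := by rw [← k3]; exact hA.comm_mem (by decide) hu
  have m4 : x 0 4 ∈ A := by rw [← k4]; exact hA.comm_mem (by decide) hu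
  intro y hy
  rcases zmod2_cases (mt y 0 1) with h5 | h5
  · exact mem_of_R1 m2 m3 m4 hy h5
  · have h6 : mt (u * y) 0 1 = 0 := by
      obtain ⟨f, hf⟩ := mem_R1_low'.1 hR
      obtain ⟨f', hf'⟩ := mem_R1_low'.1 hy
      have a1 : mt (u * y) 0 1 = top (ro (f + f')) 0 := by rw [hf, hf', ← ro_add, top_apply]; rfl
      have a2 : mt u 0 1 = top (ro f) 0 := by rw [hf, top_apply]; rfl
      have a3 : mt y 0 1 = top (ro f') 0 := by rw [hf', top_apply]; rfl
      rw [a1, top_ro, Pi.add_apply]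
      rw [a2, top_ro] at h1
      rw [a3, top_ro] at h5
      rw [h1, h5]; decide
    have h7 := mem_of_R1 m2 m3 m4 (R1.mul_mem hR hy) h6
    have h8 := A.mul_mem hu h7
    rwa [← mul_assoc, hA.sq u hu, one_mul] at h8

/-- `A ≤ V1`: the centralizer of `A` in `CC` normalises `V1`, or `A ≤ V2` contains `x03`. -/
theorem Nrm.dich (hA : Nrm A) (hV : A ≤ V1) (hz : zz ∈ A) (hne : ∃ a ∈ A, a ≠ 1 ∧ a ≠ zz) :
    (∀ g ∈ CC, (∀ a ∈ A, g * a = a * g) → Up g) ∨ (A ≤ V2 ∧ x 0 3 ∈ A) := by
  by_cases h1 : ∃ u ∈ A, ∃ j : Fin 5, 2 ≤ j ∧ mt u 1 j = 1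
  · left
    obtain ⟨u, hu, j, hj, e⟩ := h1
    exact fun g hg hc => up_of_comm hg (hV hu) e hj (hc u hu)
  push Not at h1
  have hR : ∀ u ∈ A, u ∈ R1 ∧ mt u 0 1 = 0 := by
    intro u hu
    constructor
    · intro i j hij
      rw [← mt, Matrix.sub_apply, sub_eq_zero]
      by_cases hp : PV1 i j = false
      · exact V1_entry (hV hu) hp
      · have hi : i ≤ 1 := by
          by_contra hi
          apply hp; simp [PV1, hi]
        have hj : 2 ≤ j := by
          by_contra hj
          apply hp; simp [PV1, hj]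
        have hi0 : i ≠ 0 := by
          rintro rfl
          have h2 : 1 ≤ j := le_trans (by decide) hj
          simp [PR1, h2] at hij
        have hi1 : i = 1 := (by decide : ∀ i : Fin 5, i ≤ 1 → i ≠ 0 → i = 1) i hi hi0
        rw [hi1, Matrix.one_apply_ne (by rintro rfl; exact absurd hj (by decide))]
        exact (zmod2_cases _).resolve_right (h1 u hu j hj)
    · have := V1_entry (hV hu) (i := 0) (j := 1) (by decide)
      rwa [Matrix.one_apply_ne (by decide)] at this
  by_cases h2 : ∃ u ∈ A, mt u 0 2 = 1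
  · left
    obtain ⟨u, hu, e⟩ := h2
    obtain ⟨a, ha, hc⟩ := exists_tc (hA.le hu)
    have h := allR_zero chk_3 a (by simpa using ha)
    have e1 : bt (cd u) 1 = false := by
      have := bt_cd u 0 1
      rw [ent_false.2 (hR u hu).2] at this
      exact this
    have e2 : bt (cd u) 2 = true := by
      have := bt_cd u 0 2
      rw [ent_eq.2 e] at this
      exact this
    rw [force_eq, ← hc, mem_R1_iff.1 (hR u hu).1, e1, e2, Bool.not_true, Bool.false_or, Bool.false_or,
      Bool.false_or] at h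
    have k3 : u * (x 2 3 * u * (x 2 3)⁻¹) = x 0 3 := by
      apply cd_inj
      rw [cd_mul, cd_conj_x, cdx]
      exact Nat.eq_of_beq_eq_true h
    have m3 : x 0 3 ∈ A := by rw [← k3]; exact hA.comm_mem (by decide) hu
    exact fun g hg hcm => up_of_two hg (hR u hu).1 (hR u hu).2 e (hcm u hu) (hcm _ m3)
  · right
    push Not at h2
    have hmem : ∀ u ∈ A, u = 1 ∨ u = zz ∨ u = x 0 3 ∨ u = x 0 3 * zz := by
      intro u hu
      obtain ⟨a, ha, hc⟩ := exists_tc (hA.le hu)
      have h := allR_zero chk_4 a (by simpa using ha)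
      have e1 : bt (cd u) 1 = false := by
        have := bt_cd u 0 1
        rw [ent_false.2 (hR u hu).2] at this
        exact this
      have e2 : bt (cd u) 2 = false := by
        have := bt_cd u 0 2
        rw [ent_false.2 ((zmod2_cases _).resolve_right (h2 u hu))] at this
        exact this
      rw [force_eq, ← hc, mem_R1_iff.1 (hR u hu).1, e1, e2, Bool.not_true, Bool.false_or, Bool.false_or,
        Bool.false_or, Bool.or_eq_true, Bool.or_eq_true, Bool.or_eq_true] at h
      rcases h with h | h | h | h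
      · left; apply cd_inj
        rw [cd_one, one_five]; exact Nat.eq_of_beq_eq_true h
      · right; left; apply cd_inj
        rw [zz, cdx]; exact Nat.eq_of_beq_eq_true h
      · right; right; left; apply cd_inj
        rw [cdx]; exact Nat.eq_of_beq_eq_true h
      · right; right; right; apply cd_inj
        rw [cd_mul, zz, cdx, cdx]; exact Nat.eq_of_beq_eq_true h
    have z2 : zz ∈ V2 := by
      rw [zz, mem_V2_iff, cdx]; decide +kernel
    have x2 : x 0 3 ∈ V2 := by
      rw [mem_V2_iff, cdx]; decide +kernel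
    refine ⟨?_, ?_⟩
    · intro u hu
      rcases hmem u hu with rfl | rfl | rfl | rfl
      · exact V2.one_mem
      · exact z2
      · exact x2
      · exact V2.mul_mem x2 z2
    · obtain ⟨a, ha, ha1, haz⟩ := hne
      rcases hmem a ha with rfl | rfl | rfl | rfl
      · exact absurd rfl ha1
      · exact absurd rfl haz
      · exact ha
      · have := A.mul_mem ha (A.inv_mem hz)
        rwa [mul_inv_cancel_right] at this

end Cfsg.Agent.H6.HeElt
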