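import Cfsg.Agent.H6.He.Words

/-!
# The frames on the two elementary abelian subgroups of order 64 of the Held group (helper6)
-/

set_option autoImplicit false

namespace Cfsg.Agent.H6.HeFrames

open Subgroup Cfsg Cfsg.Agent.SporadicRecognition.HeldModel Cfsg.Agent.KFacts.TwoSix.Base
  Cfsg.Agent.KFacts.TwoSix.Facts Cfsg.Agent.KFacts.TwoSix.U Cfsg.Agent.H6.HeElt Cfsg.Agent.H6.HeOver
  Cfsg.Agent.KFacts.He.Words Cfsg.Agent.KFacts.He.Hyp Cfsg.Agent.QTUnique.He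
  Cfsg.Agent.SporadicRecognition.CosetCert Cfsg.Agent.Held.Letters Cfsg.Agent.KFacts.TwoSix.OfSt
  Cfsg.Agent.H6.HexW Cfsg.Agent.H6.HeWords
open Cfsg.Agent.KFacts.He.Bound (z)

/-- the index of a vector -/
def idx (v : W) : ℕ := v.1.1.val + 2 * v.1.2.val + 4 * v.2.1.1.val + 8 * v.2.1.2.val + 16 * v.2.2.1.val + 32 * v.2.2.2.val

/-- the elements centralizing the pattern subgroup `i ≤ a < j` -/
theorem cen_gen {P : Fin 5 → Fin 5 → Bool} {a : Fin 5} (ha : a < 4) (hP : ∀ i j, P i j = (decide (i ≤ a) && decide (a < j)))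
    {g : L5} (hg : g ∈ CC) (h : ∀ v : L5, Pat P v → g * v = v * g) : Pat P g := by
  have hx : ∀ i j : Fin 5, (hi : i ≤ a) → (hj : a < j) → g * x i j (hi.trans_lt hj).ne = x i j (hi.trans_lt hj).ne * g := by
    intro i j hi hj
    apply h
    intro k l hkl
    rw [coe_x, Matrix.sub_apply, transvection_apply', Matrix.one_apply, add_sub_cancel_left]
    rw [if_neg]
    rintro ⟨rfl, rfl⟩
    rw [hP] at hkl
    simp [hi, hj] at hkl
  have hc := fun i j hi hj => comm_x (i := i) (j := j) _ (hx i j hi hj)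
  have h0 : (0 : Fin 5) ≤ a := Fin.zero_le a
  have h44 : mt g 4 4 = 1 := by
    have h1 := hc 0 4 h0 ha 0 4
    rw [if_pos rfl, if_pos rfl] at h1
    exact h1.symm.trans (CC_00 hg)
  intro k l hkl
  rw [hP] at hkl
  rw [Matrix.sub_apply, sub_eq_zero]
  by_cases hk : k = l
  · subst hk
    rw [Matrix.one_apply_eq]
    by_cases hka : k ≤ a
    · have h1 := hc k 4 hka ha k 4
      rw [if_pos rfl, if_pos rfl] at h1
      rw [h1]; exact h44
    · have h1 := hc 0 k h0 (not_le.1 hka) 0 k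
      rw [if_pos rfl, if_pos rfl] at h1
      rw [← h1]
      exact CC_00 hg
  · rw [Matrix.one_apply_ne hk]
    by_cases hl : l ≤ a
    · have h1 := hc l 4 hl ha k 4
      rwa [if_pos rfl, if_neg hk] at h1
    · have hka : a < k := by
        by_contra hka
        rw [decide_eq_true (not_lt.1 hka), decide_eq_true (not_le.1 hl)] at hkl
        exact absurd hkl (by decide)
      have h1 := hc 0 k h0 hka 0 l
      rw [if_pos rfl, if_neg (Ne.symm hk)] at h1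
      exact h1.symm

theorem cen_V1 {g : L5} (hg : g ∈ CC) (h : ∀ v ∈ V1, g * v = v * g) : g ∈ V1 :=
  cen_gen (a := 1) (by decide) (by decide) hg h

theorem cen_V2 {g : L5} (hg : g ∈ CC) (h : ∀ v ∈ V2, g * v = v * g) : g ∈ V2 :=
  cen_gen (a := 2) (by decide) (by decide) hg h

/-- the centralizer in the Held group -/
theorem cen_img {A : Subgroup L5} (hzA : zz ∈ A) (h : ∀ g : L5, g ∈ CC → (∀ v ∈ A, g * v = v * g) → g ∈ A) (hA : A ≤ CC)
    (g : Cfsg.Spor.He) (hg : ∀ v ∈ img iota A, g * v = v * g) : g ∈ img iota A := by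
  have h1 : g ∈ iota.range := by
    rw [mem_range hyp]
    exact hg z (z_mem_img hyp hzA)
  obtain ⟨u, rfl⟩ := h1
  rw [ι_mem_img hyp]
  apply h _ u.2
  intro v hv
  have h2 := hg (iota ⟨v, hA hv⟩) (mem_img.2 ⟨_, hv, rfl⟩)
  rw [← map_mul, ← map_mul] at h2
  exact congrArg Subtype.val (hyp.inj h2)

/-! ### V2 -/

def bA : Fin 6 → List ℕ := ![[3, 5], [2, 3, 6], [2, 3, 5], [2, 6], [3, 7], [2, 3, 8]]

def lA : List (List ℕ) := [[], [12, 0, 11, 10, 5, 4], [0, 11, 10, 5, 4], [13, 0, 11, 10, 5, 4], [12, 11, 10, 5, 4], [12], [14, 13], [15], [11, 10, 5, 4], [15, 13], [], [14, 12], [13, 11, 10, 5, 4], [14], [15, 12], [13], [12, 4, 10, 0, 11, 10, 5, 4], [10, 14, 12], [15, 10, 14, 12], [14, 10, 14, 12], [10, 15, 12], [12, 4, 10, 11, 10, 5, 4], [10, 15, 10, 14], [15, 4, 10, 14, 12], [14, 10, 15, 12], [10, 14, 10, 15], [4, 10, 14, 12], [12, 10, 0, 11, 10, 5, 4], [15, 10, 15, 12], [14, 4, 10, 14, 12], [12, 10,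 11, 10, 5, 4], [4, 10, 15, 12], [4, 10, 0, 11, 10, 5, 4], [14, 10, 14], [10, 14], [15, 10, 14], [15, 10, 15], [4, 10, 15], [14, 4, 10, 14], [10, 11, 10, 5, 4], [10, 15], [15, 4, 10, 14], [4, 10, 11, 10, 5, 4], [1, 14, 10, 14], [14, 10, 15], [10, 0, 11, 10, 5, 4], [4, 15, 10, 14], [4, 10, 14], [13, 4, 10, 0, 11, 10, 5, 4], [15, 10, 14, 13], [14, 10, 14, 13], [10, 14, 13], [14, 10, 15, 13], [4, 10, 14, 13], [13, 10, 0, 11, 10, 5, 4], [9, 15, 10, 14, 12], [15, 10, 15, 13], [13, 10, 11, 10, 5, 4], [4, 10, 15, 13], [10, 14, 10, 14], [10, 15, 13], [10, 15, 10, 14, 12], [10, 15, 10, 15], [13, 4, 10, 11, 10, 5, 4]]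

def CA (v : W) : List ℕ := lA.getD (idx v) []

def I6A : Fin 6 → W := ![((1, 1), (1, 1), (1, 1)), ((0, 1), (0, 1), (0, 1)), ((0, 0), (0, 0), (1, 1)), ((0, 0), (0, 0), (0, 1)), ((1, 0), (0, 1), (1, 1)), ((1, 1), (1, 0), (0, 1))]
def I2A : Fin 6 → W := ![((1, 1), (1, 1), (1, 1)), ((0, 1), (0, 1), (0, 1)), ((0, 0), (1, 1), (0, 0)), ((0, 0), (0, 1), (0, 0)), ((0, 0), (0, 0), (1, 1)), ((0, 0), (0, 0), (0, 1))]
def J6A : Fin 6 → W := ![((1, 1), (1, 1), (1, 1)), ((0, 0), (0, 0), (1, 1)), ((1, 0), (0, 1), (1, 1)), ((0, 1), (1, 0), (1, 1)), ((1, 0), (0, 0), (0, 0)), ((0, 0), (0, 1), (0, 0))]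
def J2A : Fin 6 → W := ![((1, 1), (1, 1), (1, 1)), ((0, 0), (1, 1), (0, 0)), ((0, 0), (0, 0), (1, 1)), ((1, 1), (0, 0), (0, 0)), ((1, 1), (1, 0), (0, 1)), ((1, 1), (0, 1), (1, 0))]

def sA : Equiv.Perm (Fin 6) where
  toFun := ![3, 2, 4, 5, 0, 1]
  invFun := ![4, 5, 1, 0, 2, 3]
  left_inv := by decide
  right_inv := by decide

theorem certA : ∀ v : W, v = 0 ∨ eqW (CA v ++ bas v) (wv bA v ++ CA v) = true := by decide +kernel

/-! ### V1 -/

def bB : Fin 6 → List ℕ := ![[1, 4, 6], [1, 3, 6], [1, 3, 4], [1, 6], [2, 5, 6], [2, 3, 6]]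

def lB : List (List ℕ) := [[], [15, 0, 10, 4], [0, 10, 4], [14, 0, 10, 4], [15, 10, 4], [15], [14, 7, 11, 13], [7, 11, 12], [10, 4], [14, 7, 11, 12], [], [15, 7, 11, 13], [14, 10, 4], [7, 11, 13], [15, 7, 11, 12], [14], [13, 11, 12, 10, 4], [15, 11, 12], [13, 11, 12], [14, 12, 11, 12], [15, 11, 13], [12, 11, 7, 10, 4], [14, 13, 11, 13], [12, 11, 13], [13, 7, 11, 12], [11, 12, 11, 13], [15, 13], [15, 7, 10, 4], [11, 13, 11, 12], [12, 7, 11, 12], [15, 12, 10, 4], [15, 12], [11, 12, 10, 4], [15, 12, 11, 12], [11, 12], [14, 13, 11, 12], [15, 8, 12, 11, 12], [12], [14, 12, 7, 11, 12], [12, 10, 4], [11, 13], [14, 12, 11, 13], [11, 7, 10, 4], [15, 13, 11, 13], [14, 13, 7, 11, 12], [7, 10, 4], [15, 0, 13, 11, 12], [13], [12, 11, 12, 10, 4], [15, 13, 11, 12], [12, 11, 12], [14, 11, 12], [11, 13, 11, 13], [14, 13], [14, 7, 10, 4], [0, 13, 11, 12], [8, 12, 11, 12], [14, 12, 10, 4], [14, 12], [11, 12, 11, 12],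 [14, 11, 13], [13, 11, 13], [15, 12, 11, 13], [13, 11, 7, 10, 4]]

def CB (v : W) : List ℕ := lB.getD (idx v) []

def I6B : Fin 6 → W := ![((0, 0), (1, 1), (0, 0)), ((0, 0), (0, 1), (0, 0)), ((0, 1), (1, 0), (1, 1)), ((1, 0), (1, 1), (0, 1)), ((1, 0), (0, 1), (1, 1)), ((1, 1), (1, 0), (0, 1))]
def I2B : Fin 6 → W := ![((0, 0), (1, 1), (0, 0)), ((0, 0), (0, 1), (0, 0)), ((1, 1), (0, 0), (0, 0)), ((0, 1), (0, 0), (0, 0)), ((0, 0), (0, 0), (1, 1)), ((0, 0), (0, 0), (0, 1))]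
def J6B : Fin 6 → W := ![((0, 0), (1, 1), (0, 0)), ((0, 1), (1, 0), (1, 1)), ((1, 0), (0, 1), (1, 1)), ((1, 1), (0, 0), (0, 0)), ((1, 1), (1, 1), (1, 1)), ((0, 0), (0, 0), (1, 1))]
def J2B : Fin 6 → W := ![((0, 0), (1, 1), (0, 0)), ((1, 1), (0, 0), (0, 0)), ((0, 0), (0, 0), (1, 1)), ((1, 1), (1, 1), (1, 1)), ((0, 1), (1, 1), (1, 0)), ((1, 0), (1, 1), (0, 1))]

def sB : Equiv.Perm (Fin 6) where
  toFun := ![1, 5, 4, 0, 3, 2]
  invFun := ![3, 0, 5, 4, 2, 1]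
  left_inv := by decide
  right_inv := by decide

theorem certB : ∀ v : W, v = 0 ∨ eqW (CB v ++ bas v) (wv bB v ++ CB v) = true := by decide +kernel

/-! ### The frames -/

theorem isCycle_of {σ : Equiv.Perm (Fin 6)} (h : ∀ y, ∃ n : Fin 6, (σ ^ (n : ℕ)) 0 = y) (h0 : σ 0 ≠ 0) : σ.IsCycle := by
  refine ⟨0, h0, fun y _ => ?_⟩
  obtain ⟨n, hn⟩ := h y
  exact ⟨(n : ℕ), by rw [zpow_natCast]; exact hn⟩

theorem mem_A (i : Fin 6) : E (bA i) ∈ img iota V2 := by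
  have key : ∀ n ∈ ([2, 3, 5, 6, 7, 8] : List ℕ), n < 12 ∧ ((gx xC n : CC) : L5) ∈ V2 := by
    intro n hn
    simp only [List.mem_cons, List.not_mem_nil, or_false] at hn
    rcases hn with rfl | rfl | rfl | rfl | rfl | rfl
    · exact ⟨by norm_num, by rw [c2, mem_V2_iff, cdx]; decide +kernel⟩
    · exact ⟨by norm_num, by rw [c3, mem_V2_iff, cdx]; decide +kernel⟩
    · exact ⟨by norm_num, by rw [c5, mem_V2_iff, cdx]; decide +kernel⟩
    · exact ⟨by norm_num, by rw [c6, mem_V2_iff, cdx]; decide +kernel⟩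
    · exact ⟨by norm_num, by rw [c7, mem_V2_iff, cdx]; decide +kernel⟩
    · exact ⟨by norm_num, by rw [c8, mem_V2_iff, cdx]; decide +kernel⟩
  have h2 : ∀ i, ∀ n ∈ bA i, n ∈ ([2, 3, 5, 6, 7, 8] : List ℕ) := by decide
  exact E_mem _ _ fun n hn => key n (h2 i n hn)

theorem mem_B (i : Fin 6) : E (bB i) ∈ img iota V1 := by
  have key : ∀ n ∈ ([1, 2, 3, 4, 5, 6] : List ℕ), n < 12 ∧ ((gx xC n : CC) : L5) ∈ V1 := by
    intro n hn
    simp only [List.mem_cons, List.not_mem_nil, or_false] at hn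
    rcases hn with rfl | rfl | rfl | rfl | rfl | rfl
    · exact ⟨by norm_num, by rw [c1, mem_V1_iff, cdx]; decide +kernel⟩
    · exact ⟨by norm_num, by rw [c2, mem_V1_iff, cdx]; decide +kernel⟩
    · exact ⟨by norm_num, by rw [c3, mem_V1_iff, cdx]; decide +kernel⟩
    · exact ⟨by norm_num, by rw [c4, mem_V1_iff, cdx]; decide +kernel⟩
    · exact ⟨by norm_num, by rw [c5, mem_V1_iff, cdx]; decide +kernel⟩
    · exact ⟨by norm_num, by rw [c6, mem_V1_iff, cdx]; decide +kernel⟩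
  have h2 : ∀ i, ∀ n ∈ bB i, n ∈ ([1, 2, 3, 4, 5, 6] : List ℕ) := by decide
  exact E_mem _ _ fun n hn => key n (h2 i n hn)

/-- **The frame on `V2`** -/
theorem frame2 : Frame z (img iota V2) (fun v => E (wv bA v)) sA (E [4, 10, 9]) (E [10, 14, 10, 9, 1]) :=
  mk (b := bA) (C := CA) (I6 := I6A) (I2 := I2A) (J6 := J6A) (J2 := J2A) (by decide +kernel) (by decide +kernel) certA
    (by rw [card_img hyp V2_le_CC, card_V2]) mem_A (cen_img (by rw [zz, mem_V2_iff, cdx]; decide +kernel) (fun _ => cen_V2) V2_le_CC)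
    (isCycle_of (by decide) (by decide)) (by decide) (by decide +kernel) (by decide +kernel) (by decide +kernel)
    (by decide +kernel) (by decide +kernel) (by decide +kernel)

/-- **The frame on `V1`** -/
theorem frame1 : Frame z (img iota V1) (fun v => E (wv bB v)) sB (E [0, 12, 11]) (E [9, 0]) :=
  mk (b := bB) (C := CB) (I6 := I6B) (I2 := I2B) (J6 := J6B) (J2 := J2B) (by decide +kernel) (by decide +kernel) certB
    (by rw [card_img hyp V1_le_CC, card_V1]) mem_B (cen_img (by rw [zz, mem_V1_iff, cdx]; decide +kernel) (fun _ => cen_V1) V1_le_CC)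
    (isCycle_of (by decide) (by decide)) (by decide) (by decide +kernel) (by decide +kernel) (by decide +kernel)
    (by decide +kernel) (by decide +kernel) (by decide +kernel)

end Cfsg.Agent.H6.HeFrames
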