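import Cfsg.Agent.H6.HatSix

/-!
# The stabilizer `3·S₆` of a hyperoval of `PG(2, 4)` and its use for normalizers of subgroups of order 64 (helper6)

`W = F₄³` (as an additive group), `cls` the number of the point of the hyperoval containing a vector.
`GW` : the additive automorphisms preserving the 18 vectors of the hyperoval; `hat`: `GW` is `3·S₆`.
`Frame.row`: `G` a finite group, `V ≤ G` of order 64 with coordinates `e : W → V` such that the 18 vectors are the ones not
conjugate to `z`.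
-/

set_option autoImplicit false

namespace Cfsg.Agent.H6.HexW

open Subgroup Cfsg Cfsg.Agent.H6.HatSix

abbrev F := ZMod 2 × ZMod 2
abbrev W := F × F × F

/-- multiplication by `ω` -/
def om (a : F) : F := (a.2, a.1 + a.2)

/-- the point of the hyperoval containing the vector -/
def cls (v : W) : Option (Fin 6) :=
  if v.2.1 = 0 ∧ v.2.2 = 0 then (if v.1 = 0 then none else some 0)
  else if v.1 = 0 ∧ v.2.2 = 0 then some 1
  else if v.1 = 0 ∧ v.2.1 = 0 then some 2
  else if v.2.1 = v.1 ∧ v.2.2 = v.1 then some 3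
  else if v.2.1 = om v.1 ∧ v.2.2 = om (om v.1) then some 4
  else if v.2.1 = om (om v.1) ∧ v.2.2 = om v.1 then some 5
  else none

def e1 : F := (1, 0)
def ew : F := (0, 1)
def eb : F := (1, 1)

/-- representatives of the points -/
def rep : Fin 6 → W := ![(e1, 0, 0), (0, e1, 0), (0, 0, e1), (e1, e1, e1), (e1, ew, eb), (e1, eb, ew)]

theorem cls_rep : ∀ i, cls (rep i) = some i := by decide +kernel

theorem cls_zero : cls 0 = none := by decide +kernel

theorem cls_add : ∀ u v : W, (cls u).isSome = true → (cls v).isSome = true →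
    (cls u = cls v ↔ (u + v = 0 ∨ (cls (u + v)).isSome = true)) := by decide +kernel

/-- the additive permutations preserving the 18 vectors -/
def GW : Subgroup (Equiv.Perm W) where
  carrier := {α | (∀ u v, α (u + v) = α u + α v) ∧ ∀ v, (cls (α v)).isSome = (cls v).isSome}
  one_mem' := ⟨fun _ _ => rfl, fun _ => rfl⟩
  mul_mem' := fun {α β} ha hb => by
    refine ⟨fun u v => ?_, fun v => ?_⟩
    · show α (β (u + v)) = α (β u) + α (β v)
      rw [hb.1, ha.1]
    · show (cls (α (β v))).isSome = _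
      rw [ha.2, hb.2]
  inv_mem' := fun {α} ha => by
    refine ⟨fun u v => ?_, fun v => ?_⟩
    · apply α.injective
      show α (α.symm (u + v)) = α (α.symm u + α.symm v)
      rw [ha.1, Equiv.apply_symm_apply, Equiv.apply_symm_apply, Equiv.apply_symm_apply]
    · have h1 := ha.2 (α.symm v)
      rw [Equiv.apply_symm_apply] at h1
      exact h1.symm

theorem add_GW {α : Equiv.Perm W} (h : α ∈ GW) (u v : W) : α (u + v) = α u + α v := h.1 u v

theorem zero_GW {α : Equiv.Perm W} (h : α ∈ GW) : α 0 = 0 := by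
  have h1 := add_GW h 0 0
  rw [add_zero] at h1
  exact left_eq_add.1 h1

theorem mem_GW {α : Equiv.Perm W} (h : α ∈ GW) (v : W) : (cls (α v)).isSome = (cls v).isSome := h.2 v

/-- the permutation of the points -/
def pf (α : Equiv.Perm W) (i : Fin 6) : Fin 6 := (cls (α (rep i))).getD 0

theorem cls_pf {α : Equiv.Perm W} (ha : α ∈ GW) (i : Fin 6) : cls (α (rep i)) = some (pf α i) := by
  have h1 : (cls (α (rep i))).isSome = true := by rw [mem_GW ha, cls_rep]; rfl
  obtain ⟨j, hj⟩ := Option.isSome_iff_exists.1 h1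
  rw [pf, hj]; rfl

theorem cls_apply {α : Equiv.Perm W} (ha : α ∈ GW) {v : W} {i : Fin 6} (hv : cls v = some i) :
    cls (α v) = some (pf α i) := by
  rw [← cls_pf ha]
  have h1 : (cls (α v)).isSome = true := by rw [mem_GW ha, hv]; rfl
  have h2 : (cls (α (rep i))).isSome = true := by rw [mem_GW ha, cls_rep]; rfl
  rw [cls_add _ _ h1 h2, ← add_GW ha]
  have h3 := (cls_add v (rep i) (by rw [hv]; rfl) (by rw [cls_rep]; rfl)).1 (by rw [hv, cls_rep])
  rcases h3 with h3 | h3
  · left; rw [h3, zero_GW ha]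
  · right; rw [mem_GW ha]; exact h3

theorem pf_mul {α β : Equiv.Perm W} (ha : α ∈ GW) (hb : β ∈ GW) (i : Fin 6) : pf (α * β) i = pf α (pf β i) := by
  have h1 := cls_apply ha (cls_pf hb i)
  have h2 := cls_pf (GW.mul_mem ha hb) i
  have h3 : cls ((α * β) (rep i)) = cls (α (β (rep i))) := rfl
  rw [h3, h1] at h2
  exact (Option.some.inj h2).symm

theorem pf_one (i : Fin 6) : pf 1 i = i := by
  have h1 := cls_pf GW.one_mem i
  have h2 : cls ((1 : Equiv.Perm W) (rep i)) = some i := cls_rep i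
  rw [h2] at h1
  exact (Option.some.inj h1).symm

/-- the action on the six points -/
def pi : GW →* Equiv.Perm (Fin 6) where
  toFun α :=
    { toFun := pf α
      invFun := pf (α : Equiv.Perm W)⁻¹
      left_inv := fun i => by rw [← pf_mul (inv_mem α.2) α.2, inv_mul_cancel, pf_one]
      right_inv := fun i => by rw [← pf_mul α.2 (inv_mem α.2), mul_inv_cancel, pf_one] }
  map_one' := by
    ext i
    exact congrArg Fin.val (pf_one i)
  map_mul' := fun α β => by
    ext i
    exact congrArg Fin.val (pf_mul α.2 β.2 i)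

theorem pi_apply (α : GW) (i : Fin 6) : pi α i = pf α i := rfl

theorem pi_eq {α : GW} {σ : Equiv.Perm (Fin 6)} (h : ∀ i, cls ((α : Equiv.Perm W) (rep i)) = some (σ i)) : pi α = σ := by
  ext i
  rw [pi_apply]
  have h1 := cls_pf α.2 i
  rw [h] at h1
  exact congrArg Fin.val (Option.some.inj h1).symm

/-- an additive subset containing the six basis vectors -/
theorem induct {P : W → Prop} (hadd : ∀ u v, P u → P v → P (u + v)) (h0 : P 0)
    (h1 : P (e1, 0, 0)) (h2 : P (ew, 0, 0)) (h3 : P (0, e1, 0)) (h4 : P (0, ew, 0)) (h5 : P (0, 0, e1))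
    (h6 : P (0, 0, ew)) (v : W) : P v := by
  let f : ZMod 2 → W → W := fun c u => if c = 1 then u else 0
  have hf : ∀ c u, P u → P (f c u) := by
    intro c u hu
    show P (if c = 1 then u else 0)
    split
    · exact hu
    · exact h0
  have key : v = f v.1.1 (e1, 0, 0) + f v.1.2 (ew, 0, 0) + f v.2.1.1 (0, e1, 0) + f v.2.1.2 (0, ew, 0) +
      f v.2.2.1 (0, 0, e1) + f v.2.2.2 (0, 0, ew) := by
    revert v; decide +kernel
  rw [key]
  exact hadd _ _ (hadd _ _ (hadd _ _ (hadd _ _ (hadd _ _ (hf _ _ h1) (hf _ _ h2)) (hf _ _ h3)) (hf _ _ h4)) (hf _ _ h5))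
    (hf _ _ h6)

theorem aut_ext {α β : Equiv.Perm W} (ha : α ∈ GW) (hb : β ∈ GW) (h1 : α (e1, 0, 0) = β (e1, 0, 0)) (h2 : α (ew, 0, 0) = β (ew, 0, 0))
    (h3 : α (0, e1, 0) = β (0, e1, 0)) (h4 : α (0, ew, 0) = β (0, ew, 0)) (h5 : α (0, 0, e1) = β (0, 0, e1))
    (h6 : α (0, 0, ew) = β (0, 0, ew)) : α = β := by
  apply Equiv.ext
  apply induct (P := fun v => α v = β v)
  · intro u v hu hv
    rw [add_GW ha, add_GW hb, hu, hv]
  · rw [zero_GW ha, zero_GW hb]
  all_goals assumption

def b3 (v1 v2 : W) : Bool := !(cls v1 == some 1) || (!(cls v2 == some 2) || (!(cls (rep 0 + v1 + v2) == some 3) ||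
  (decide (v1 = (0, e1, 0)) && decide (v2 = (0, 0, e1)))))
def b4 (v1 v2 : W) : Bool := !(cls v1 == some 1) || (!(cls v2 == some 2) || (!(cls (rep 0 + v1 + v2) == some 4) ||
  (decide (v1 = (0, ew, 0)) && decide (v2 = (0, 0, eb)))))
def b0 (v : W) : Bool := !(cls v == some 0) || (!(cls (v + (0, ew, 0) + (0, 0, ew)) == some 3) || decide (v = (ew, 0, 0)))

theorem b3_chk : ∀ v1 v2 : W, b3 v1 v2 = true := by decide +kernel
theorem b4_chk : ∀ v1 v2 : W, b4 v1 v2 = true := by decide +kernel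
theorem b0_chk : ∀ v : W, b0 v = true := by decide +kernel

theorem chk3 (v1 v2 : W) (h1 : cls v1 = some 1) (h2 : cls v2 = some 2) (h3 : cls (rep 0 + v1 + v2) = some 3) :
    v1 = (0, e1, 0) ∧ v2 = (0, 0, e1) := by
  have h := b3_chk v1 v2
  rw [b3, h1, h2, h3] at h
  simpa using h

theorem chk4 (v1 v2 : W) (h1 : cls v1 = some 1) (h2 : cls v2 = some 2) (h3 : cls (rep 0 + v1 + v2) = some 4) :
    v1 = (0, ew, 0) ∧ v2 = (0, 0, eb) := by
  have h := b4_chk v1 v2
  rw [b4, h1, h2, h3] at h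
  simpa using h

theorem chk0 (v : W) (h1 : cls v = some 0) (h3 : cls (v + (0, ew, 0) + (0, 0, ew)) = some 3) : v = (ew, 0, 0) := by
  have h := b0_chk v
  rw [b0, h1, h3] at h
  simpa using h

/-- an element of the kernel fixing a vector of the first point is trivial -/
theorem ker_one {α : Equiv.Perm W} (ha : α ∈ GW) (hk : ∀ i, pf α i = i) (h0 : α (rep 0) = rep 0) : α = 1 := by
  have c : ∀ {v : W} {i : Fin 6}, cls v = some i → cls (α v) = some i := fun {v i} hv => by
    rw [cls_apply ha hv, hk]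
  have s3 : rep 3 = rep 0 + (0, e1, 0) + (0, 0, e1) := by decide +kernel
  have s4 : rep 4 = rep 0 + (0, ew, 0) + (0, 0, eb) := by decide +kernel
  have h3 := c (cls_rep 3)
  rw [s3, add_GW ha, add_GW ha, h0] at h3
  obtain ⟨f1, f2⟩ := chk3 _ _ (c (by decide +kernel)) (c (by decide +kernel)) h3
  have h4 := c (cls_rep 4)
  rw [s4, add_GW ha, add_GW ha, h0] at h4
  obtain ⟨f3, f4⟩ := chk4 _ _ (c (by decide +kernel)) (c (by decide +kernel)) h4
  have f5 : α (0, 0, ew) = (0, 0, ew) := by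
    have e : ((0, 0, ew) : W) = (0, 0, e1) + (0, 0, eb) := by decide +kernel
    rw [e, add_GW ha, f2, f4]
  have h5 : cls (α ((ew, 0, 0) + (0, ew, 0) + (0, 0, ew))) = some 3 := c (by decide +kernel)
  rw [add_GW ha, add_GW ha, f3, f5] at h5
  have f6 := chk0 _ (c (by decide +kernel)) h5
  exact aut_ext ha GW.one_mem h0 f6 f1 f3 f2 f5

/-- the scalar `ω` -/
def sc : Equiv.Perm W where
  toFun v := (om v.1, om v.2.1, om v.2.2)
  invFun v := (om (om v.1), om (om v.2.1), om (om v.2.2))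
  left_inv := by decide +kernel
  right_inv := by decide +kernel

/-- `diag(1, ω, ω²)` -/
def aa : Equiv.Perm W where
  toFun v := (v.1, om v.2.1, om (om v.2.2))
  invFun v := (v.1, om (om v.2.1), om v.2.2)
  left_inv := by decide +kernel
  right_inv := by decide +kernel

/-- the cyclic permutation of the coordinates -/
def bb : Equiv.Perm W where
  toFun v := (v.2.2, v.1, v.2.1)
  invFun v := (v.2.1, v.2.2, v.1)
  left_inv := by decide +kernel
  right_inv := by decide +kernel

theorem sc_apply (v : W) : sc v = (om v.1, om v.2.1, om v.2.2) := rfl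
theorem aa_apply (v : W) : aa v = (v.1, om v.2.1, om (om v.2.2)) := rfl
theorem bb_apply (v : W) : bb v = (v.2.2, v.1, v.2.1) := rfl

theorem sc_mem : sc ∈ GW := by
  refine ⟨?_, ?_⟩ <;> simp only [sc_apply] <;> decide +kernel

theorem aa_mem : aa ∈ GW := by
  refine ⟨?_, ?_⟩ <;> simp only [aa_apply] <;> decide +kernel

theorem bb_mem : bb ∈ GW := by
  refine ⟨?_, ?_⟩ <;> simp only [bb_apply] <;> decide +kernel

theorem pi_sc : pi ⟨sc, sc_mem⟩ = 1 := by
  apply pi_eq
  simp only [sc_apply]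
  decide +kernel

theorem pi_aa : pi ⟨aa, aa_mem⟩ = Equiv.swap 3 5 * Equiv.swap 3 4 := by
  apply pi_eq
  simp only [aa_apply]
  decide +kernel

theorem pi_bb : pi ⟨bb, bb_mem⟩ = Equiv.swap 0 2 * Equiv.swap 0 1 := by
  apply pi_eq
  simp only [bb_apply]
  decide +kernel

theorem sc_cube : sc ^ 3 = 1 := by
  apply Equiv.ext
  intro v
  show sc (sc (sc v)) = v
  simp only [sc_apply]
  revert v; decide +kernel

theorem sc_ne : sc ≠ 1 := by
  intro h
  have h1 := congrArg (fun α : Equiv.Perm W => α (e1, 0, 0)) h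
  have h2 : ((om e1, om 0, om 0) : W) = (e1, 0, 0) := h1
  revert h2; decide +kernel

def c0 (v : W) : Bool := !(cls v == some 0) || (decide (v = rep 0) || (decide (v = sc (rep 0)) || decide (v = sc (sc (rep 0)))))

theorem c0_chk : ∀ v : W, c0 v = true := by decide +kernel

theorem cls0_cases (v : W) (h1 : cls v = some 0) : v = rep 0 ∨ v = sc (rep 0) ∨ v = sc (sc (rep 0)) := by
  have h := c0_chk v
  rw [c0, h1] at h
  simpa using h

theorem ker_cases {α : Equiv.Perm W} (ha : α ∈ GW) (hk : ∀ i, pf α i = i) : α = 1 ∨ α = sc ∨ α = sc * sc := by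
  have hsk : ∀ i, pf sc i = i := fun i => by
    have := congrArg (fun σ : Equiv.Perm (Fin 6) => σ i) pi_sc
    exact this
  have h0 : cls (α (rep 0)) = some 0 := by rw [cls_pf ha, hk]
  have key : ∀ {β : Equiv.Perm W} (_ : β ∈ GW) (_ : ∀ i, pf β i = i), α (rep 0) = β (rep 0) → α = β := by
    intro β hb hbk h
    have h1 : β⁻¹ * α ∈ GW := GW.mul_mem (GW.inv_mem hb) ha
    have h2 : ∀ i, pf (β⁻¹ * α) i = i := by
      intro i
      rw [pf_mul (GW.inv_mem hb) ha, hk]
      have h3 := pf_mul (GW.inv_mem hb) hb i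
      rw [inv_mul_cancel, pf_one, hbk] at h3
      exact h3.symm
    have h3 : (β⁻¹ * α) (rep 0) = rep 0 := by
      show β⁻¹ (α (rep 0)) = rep 0
      rw [h]
      exact β.symm_apply_apply (rep 0)
    have h4 := ker_one h1 h2 h3
    rw [inv_mul_eq_one] at h4
    exact h4.symm
  rcases cls0_cases _ h0 with h | h | h
  · left; exact key GW.one_mem pf_one h
  · right; left; exact key sc_mem hsk h
  · right; right
    refine key (GW.mul_mem sc_mem sc_mem) (fun i => ?_) h
    rw [pf_mul sc_mem sc_mem, hsk, hsk]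

theorem mem_ker {α : GW} : α ∈ pi.ker ↔ (α : Equiv.Perm W) = 1 ∨ (α : Equiv.Perm W) = sc ∨ (α : Equiv.Perm W) = sc * sc := by
  constructor
  · intro h
    apply ker_cases α.2
    intro i
    have h1 := congrArg (fun σ : Equiv.Perm (Fin 6) => σ i) (MonoidHom.mem_ker.1 h)
    exact h1
  · have hs : (⟨sc, sc_mem⟩ : GW) ∈ pi.ker := MonoidHom.mem_ker.2 pi_sc
    rintro (h | h | h)
    · have : α = 1 := Subtype.ext h
      rw [this]; exact one_mem _
    · have : α = ⟨sc, sc_mem⟩ := Subtype.ext h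
      rw [this]; exact hs
    · have : α = ⟨sc, sc_mem⟩ * ⟨sc, sc_mem⟩ := Subtype.ext h
      rw [this]; exact mul_mem hs hs

theorem card_ker : Nat.card pi.ker = 3 := by
  have h3 : Fact (Nat.Prime 3) := ⟨Nat.prime_three⟩
  have h1 : pi.ker = Subgroup.zpowers (⟨sc, sc_mem⟩ : GW) := by
    ext α
    rw [mem_ker, Subgroup.mem_zpowers_iff]
    constructor
    · rintro (h | h | h)
      · exact ⟨0, by rw [zpow_zero]; exact Subtype.ext h.symm⟩
      · exact ⟨1, by rw [zpow_one]; exact Subtype.ext h.symm⟩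
      · exact ⟨2, by rw [zpow_two]; exact Subtype.ext h.symm⟩
    · rintro ⟨k, rfl⟩
      have h2 : ((⟨sc, sc_mem⟩ : GW) ^ k) ∈ pi.ker := zpow_mem (MonoidHom.mem_ker.2 pi_sc) k
      exact mem_ker.1 h2
  rw [h1, Nat.card_zpowers]
  apply orderOf_eq_prime
  · exact Subtype.ext sc_cube
  · intro h
    exact sc_ne (congrArg Subtype.val h)

theorem aa_sc : aa * sc = sc * aa := by
  apply Equiv.ext
  intro v
  show aa (sc v) = sc (aa v)
  simp only [sc_apply, aa_apply]

theorem bb_sc : bb * sc = sc * bb := by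
  apply Equiv.ext
  intro v
  show bb (sc v) = sc (bb v)
  simp only [sc_apply, bb_apply]

theorem hat (hs : Function.Surjective pi) : Hat pi ⟨aa, aa_mem⟩ ⟨bb, bb_mem⟩ where
  surj := hs
  ker := card_ker
  ea := by
    rw [pi_aa, Equiv.Perm.mem_alternatingGroup]; decide +kernel
  eb := by
    rw [pi_bb, Equiv.Perm.mem_alternatingGroup]; decide +kernel
  ca := by
    intro c hc
    apply Subtype.ext
    show aa * (c : Equiv.Perm W) = c * aa
    rcases mem_ker.1 hc with h | h | h <;> rw [h]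
    · rw [mul_one, one_mul]
    · exact aa_sc
    · rw [← mul_assoc, aa_sc, mul_assoc, aa_sc, mul_assoc]
  cb := by
    intro c hc
    apply Subtype.ext
    show bb * (c : Equiv.Perm W) = c * bb
    rcases mem_ker.1 hc with h | h | h <;> rw [h]
    · rw [mul_one, one_mul]
    · exact bb_sc
    · rw [← mul_assoc, bb_sc, mul_assoc, bb_sc, mul_assoc]
  comm := by
    rw [pi_aa, pi_bb]; decide +kernel
  ne := by
    intro h
    have h1 := congrArg (fun α : GW => (α : Equiv.Perm W) (e1, 0, 0)) h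
    have h2 : aa (bb (e1, 0, 0)) = bb (aa (e1, 0, 0)) := h1
    simp only [aa_apply, bb_apply] at h2
    revert h2; decide +kernel

/-! ### Subgroups of order 64 -/

section

variable {G : Type*} [Group G]

/-- coordinates on `V`; the 18 vectors are the ones not conjugate to `z`; `V` is self-centralizing; two elements of `N(V)`
induce a 6-cycle and a transposition -/
structure Frame (z : G) (V : Subgroup G) (e : W → G) (σ : Equiv.Perm (Fin 6)) (g h : G) : Prop where
  add : ∀ u v, e (u + v) = e u * e v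
  inj : Function.Injective e
  mem : ∀ g, g ∈ V ↔ ∃ w, e w = g
  cls : ∀ w, w ≠ 0 → ((cls w).isSome = true ↔ ¬ IsConj z (e w))
  cen : ∀ g, (∀ v ∈ V, g * v = v * g) → g ∈ V
  cyc : σ.IsCycle
  supp : σ.support = Finset.univ
  g_mem : g ∈ normalizer (V : Set G)
  h_mem : h ∈ normalizer (V : Set G)
  g_act : ∀ i, ∃ w, HexW.cls w = some (σ i) ∧ g * e (rep i) * g⁻¹ = e w
  h_act : ∀ i, ∃ w, HexW.cls w = some (Equiv.swap 0 (σ 0) i) ∧ h * e (rep i) * h⁻¹ = e w

variable {z : G} {V : Subgroup G} {e : W → G} {σ : Equiv.Perm (Fin 6)} {g h : G} (fr : Frame z V e σ g h)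
include fr

theorem Frame.e_mem (w : W) : e w ∈ V := (fr.mem _).2 ⟨w, rfl⟩

theorem Frame.zero : e 0 = 1 := by
  have h1 := fr.add 0 0
  rw [add_zero] at h1
  exact left_eq_mul.1 h1

omit fr in
/-- the coordinates -/
noncomputable def dd (e : W → G) (x : G) : W := Function.invFun e x

theorem Frame.e_dd {x : G} (hx : x ∈ V) : e (dd e x) = x := by
  obtain ⟨w, hw⟩ := (fr.mem x).1 hx
  exact Function.invFun_eq ⟨w, hw⟩

theorem Frame.dd_e (w : W) : dd e (e w) = w := fr.inj (fr.e_dd (fr.e_mem w))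

theorem Frame.conj_mem {x : G} (hx : x ∈ normalizer (V : Set G)) (w : W) : x * e w * x⁻¹ ∈ V :=
  (mem_normalizer_iff.1 hx _).1 (fr.e_mem w)

/-- the action of `N(V)` in coordinates -/
noncomputable def Frame.act {x : G} (hx : x ∈ normalizer (V : Set G)) : Equiv.Perm W where
  toFun w := dd e (x * e w * x⁻¹)
  invFun w := dd e (x⁻¹ * e w * x)
  left_inv w := by
    apply fr.inj
    have h1 : x⁻¹ * (x * e w * x⁻¹) * x = e w := by group
    show e (dd e (x⁻¹ * e (dd e (x * e w * x⁻¹)) * x)) = e w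
    rw [fr.e_dd (fr.conj_mem hx w), h1, fr.e_dd (fr.e_mem w)]
  right_inv w := by
    apply fr.inj
    have h0 := fr.conj_mem (inv_mem hx) w
    rw [inv_inv] at h0
    have h1 : x * (x⁻¹ * e w * x) * x⁻¹ = e w := by group
    show e (dd e (x * e (dd e (x⁻¹ * e w * x)) * x⁻¹)) = e w
    rw [fr.e_dd h0, h1, fr.e_dd (fr.e_mem w)]

theorem Frame.e_act {x : G} (hx : x ∈ normalizer (V : Set G)) (w : W) : e (fr.act hx w) = x * e w * x⁻¹ :=
  fr.e_dd (fr.conj_mem hx w)

theorem Frame.act_add {x : G} (hx : x ∈ normalizer (V : Set G)) (u v : W) :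
    fr.act hx (u + v) = fr.act hx u + fr.act hx v := by
  apply fr.inj
  rw [fr.add, fr.e_act, fr.e_act, fr.e_act, fr.add]
  group

theorem Frame.act_mem {x : G} (hx : x ∈ normalizer (V : Set G)) : fr.act hx ∈ GW := by
  refine ⟨fr.act_add hx, ?_⟩
  have h0 : fr.act hx 0 = 0 := by
    have h1 := fr.act_add hx 0 0
    rw [add_zero] at h1
    exact left_eq_add.1 h1
  intro v
  by_cases hv : v = 0
  · rw [hv, h0]
  · have h1 : fr.act hx v ≠ 0 := fun h2 => hv ((fr.act hx).injective (h2.trans h0.symm))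
    have h3 := fr.cls _ hv
    have h4 := fr.cls _ h1
    have h5 : IsConj z (e (fr.act hx v)) ↔ IsConj z (e v) := by
      have h6 : IsConj (e v) (e (fr.act hx v)) := isConj_iff.2 ⟨x, (fr.e_act hx v).symm⟩
      exact ⟨fun h7 => h7.trans h6.symm, fun h7 => h7.trans h6⟩
    rw [h5, ← h3] at h4
    rw [Bool.eq_iff_iff]
    exact h4

/-- the homomorphism onto `3·S₆` -/
noncomputable def Frame.psi : normalizer (V : Set G) →* GW where
  toFun x := ⟨fr.act x.2, fr.act_mem x.2⟩
  map_one' := by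
    apply Subtype.ext
    apply Equiv.ext
    intro w
    apply fr.inj
    refine (fr.e_act (1 : normalizer (V : Set G)).2 w).trans ?_
    show (1 : G) * e w * (1 : G)⁻¹ = e w
    group
  map_mul' x y := by
    apply Subtype.ext
    apply Equiv.ext
    intro w
    apply fr.inj
    refine (fr.e_act (x * y).2 w).trans ?_
    show (x * y : G) * e w * (x * y : G)⁻¹ = e (fr.act x.2 (fr.act y.2 w))
    rw [fr.e_act, fr.e_act]
    group

theorem Frame.pi_psi {x : G} (hx : x ∈ normalizer (V : Set G)) {τ : Equiv.Perm (Fin 6)}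
    (ha : ∀ i, ∃ w, HexW.cls w = some (τ i) ∧ x * e (rep i) * x⁻¹ = e w) : pi (fr.psi ⟨x, hx⟩) = τ := by
  apply pi_eq
  intro i
  obtain ⟨w, hw, he⟩ := ha i
  have h1 : fr.act hx (rep i) = w := by
    apply fr.inj
    rw [fr.e_act, he]
  show HexW.cls (fr.act hx (rep i)) = _
  rw [h1, hw]

theorem Frame.range_top : (fr.psi.range).map pi = ⊤ := by
  rw [eq_top_iff, ← Equiv.Perm.closure_cycle_adjacent_swap fr.cyc fr.supp 0, closure_le]
  rintro τ (rfl | rfl)
  · exact ⟨fr.psi ⟨g, fr.g_mem⟩, ⟨_, rfl⟩, fr.pi_psi fr.g_mem fr.g_act⟩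
  · exact ⟨fr.psi ⟨h, fr.h_mem⟩, ⟨_, rfl⟩, fr.pi_psi fr.h_mem fr.h_act⟩

theorem Frame.pi_surj : Function.Surjective pi := by
  rw [← MonoidHom.range_eq_top, eq_top_iff, ← fr.range_top]
  rintro _ ⟨x, -, rfl⟩
  exact ⟨x, rfl⟩

theorem Frame.psi_surj : Function.Surjective fr.psi := by
  rw [← MonoidHom.range_eq_top]
  exact (hat fr.pi_surj).eq_top fr.range_top

theorem Frame.mem_ker {x : normalizer (V : Set G)} : x ∈ fr.psi.ker ↔ (x : G) ∈ V := by
  rw [MonoidHom.mem_ker]
  constructor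
  · intro hx
    apply fr.cen
    intro v hv
    obtain ⟨w, rfl⟩ := (fr.mem v).1 hv
    have h1 : fr.act x.2 w = w := by
      have h2 := congrArg (fun α : GW => (α : Equiv.Perm W) w) hx
      exact h2
    have h3 := fr.e_act x.2 w
    rw [h1] at h3
    exact (eq_mul_inv_iff_mul_eq.1 h3).symm
  · intro hx
    obtain ⟨u, hu⟩ := (fr.mem _).1 hx
    apply Subtype.ext
    apply Equiv.ext
    intro w
    apply fr.inj
    show e (fr.act x.2 w) = e w
    rw [fr.e_act, ← hu, ← fr.add, add_comm, fr.add]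
    group

theorem Frame.isPGroup_ker : IsPGroup 2 fr.psi.ker := by
  intro x
  refine ⟨1, ?_⟩
  apply Subtype.ext
  apply Subtype.ext
  obtain ⟨w, hw⟩ := (fr.mem _).1 (fr.mem_ker.1 x.2)
  show ((x : normalizer (V : Set G)) : G) ^ (2 ^ 1) = 1
  have h1 : w + w = 0 := (by decide +kernel : ∀ w : W, w + w = 0) w
  rw [← hw, pow_one, pow_two, ← fr.add, h1, fr.zero]

/-- **The members of `ℒ(G, T)` in `N(V)`.** -/
theorem Frame.row [Finite G] (T : Sylow 2 G) {L : Subgroup G} (hL : L ∈ calL (T : Subgroup G))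
    (hTM : (T : Subgroup G) ≤ normalizer (V : Set G)) (hLM : L ≤ normalizer (V : Set G)) :
    L ⊔ T ≤ normalizer (L : Set G) ∧ IsHatA6 (L ⧸ Cfsg.pCore 2 L) ∧ L.subgroupOf (L ⊔ T) = perfectCore ↥(L ⊔ T) :=
  (hat fr.pi_surj).row T hL hTM hLM fr.psi fr.psi_surj fr.isPGroup_ker

end

end Cfsg.Agent.H6.HexW
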