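import Cfsg.Agent.H6.He.Elt
import Cfsg.Agent.H4.Lf
import Cfsg.Agent.KFacts.He.InvolAut
import Cfsg.Agent.Lib.SylowNormalInf

/-!
# 2-local overgroups of a Sylow 2-subgroup in a group with the involution centralizer of `SL(5, 2)` (helper6)

`Hyp z ι` : `C(z) = 2^{1+6}:L3(2)`.  `Ctx z ι`: in addition `x01 x24` is not conjugate to `z`, and some element moving `z`
into `R1` (`R2`) does not normalise `R1` (`R2`): this holds in the Held group.
* `normalizer_R1`: `N(R1) ≤ C(z)`;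
* `over`: `T ≤ H`, `O₂(H) ≠ 1`: `H ≤ C(z)`, `N(V1)` or `N(V2)`.
-/

set_option autoImplicit false

namespace Cfsg.Agent.H6.HeOver

open Subgroup Cfsg Cfsg.Agent.SporadicRecognition.HeldModel Cfsg.Agent.KFacts.TwoSix.Base
  Cfsg.Agent.KFacts.TwoSix.Facts Cfsg.Agent.KFacts.TwoSix.U
  Cfsg.Agent.KFacts.He.InvolAut Cfsg.Agent.H6.HeElt Cfsg.Agent.QTUniq.Local
open Cfsg.Agent.KFacts.TwoSix.Normal (trans_R1)

/-- **Frattini argument for a weakly closed subgroup `V` centralizing `U`.** -/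
theorem normalizer_le {G : Type*} [Group G] [Finite G] (T : Sylow 2 G) {U V : Subgroup G}
    (hTU : (T : Subgroup G) ≤ normalizer (U : Set G)) (hVT : V ≤ (T : Subgroup G))
    (hw : ∀ g : G, (∀ v ∈ V, g * v * g⁻¹ ∈ (T : Subgroup G)) → g ∈ normalizer (V : Set G))
    (hVU : V ≤ centralizer (U : Set G)) (hC : centralizer (U : Set G) ≤ normalizer (V : Set G)) :
    normalizer (U : Set G) ≤ normalizer (V : Set G) := by
  have h2 : Fact (Nat.Prime 2) := ⟨Nat.prime_two⟩
  set N0 : Subgroup G := normalizer (U : Set G) with hN0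
  have hCN : centralizer (U : Set G) ≤ N0 := Subgroup.centralizer_le_normalizer _
  set K : Subgroup N0 := (centralizer (U : Set G)).subgroupOf N0 with hK
  have hKn : K.Normal := by
    rw [hK, normal_subgroupOf_iff_le_normalizer hCN]
    intro g hg
    have key : ∀ g ∈ N0, ∀ x ∈ centralizer (U : Set G), g * x * g⁻¹ ∈ centralizer (U : Set G) := by
      intro g hg x hx
      rw [mem_centralizer_iff] at hx ⊢
      intro u hu
      have h1 : g⁻¹ * u * g ∈ U := by
        have h3 := (mem_normalizer_iff.1 (inv_mem hg) u).1 hu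
        rwa [inv_inv] at h3
      have h3 := hx _ h1
      calc u * (g * x * g⁻¹) = g * ((g⁻¹ * u * g) * x) * g⁻¹ := by group
        _ = g * (x * (g⁻¹ * u * g)) * g⁻¹ := by rw [h3]
        _ = g * x * g⁻¹ * u := by group
    rw [mem_normalizer_iff]
    intro x
    refine ⟨key g hg x, fun hx => ?_⟩
    have h1 := key g⁻¹ (inv_mem hg) _ hx
    have e : g⁻¹ * (g * x * g⁻¹) * g⁻¹⁻¹ = x := by group
    rwa [e] at h1
  have htop := Lib.SylowNormalInf.normalizer_inf_sup_eq_top (T.subtype hTU) K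
  intro g hg
  have hg' : (⟨g, hg⟩ : N0) ∈ normalizer ((((T.subtype hTU : Subgroup N0) ⊓ K : Subgroup N0)) : Set N0) ⊔ K := by
    rw [htop]; exact mem_top _
  obtain ⟨y, hy, k, hk, hyk⟩ := Subgroup.mem_sup_of_normal_right.1 hg'
  have hyV : (y : G) ∈ normalizer (V : Set G) := by
    apply hw
    intro v hv
    have hvN : v ∈ N0 := hTU (hVT hv)
    have h1 : (⟨v, hvN⟩ : N0) ∈ ((T.subtype hTU : Subgroup N0) ⊓ K : Subgroup N0) :=
      mem_inf.2 ⟨hVT hv, mem_subgroupOf.2 (hVU hv)⟩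
    have h3 := (mem_normalizer_iff.1 hy _).1 h1
    exact (mem_inf.1 h3).1
  have hkV : (k : G) ∈ normalizer (V : Set G) := hC (mem_subgroupOf.1 hk)
  have h4 : g = (y : G) * (k : G) := (congrArg Subtype.val hyk).symm
  rw [h4]
  exact mul_mem hyV hkV

section

variable {G : Type*} [Group G] {z : G} {ι : CC →* G}

/-- the preimage in `L5` of a subgroup of `G` -/
def pre (ι : CC →* G) (U : Subgroup G) : Subgroup L5 := (U.comap ι).map CC.subtype

theorem mem_pre {U : Subgroup G} {u : CC} : (u : L5) ∈ pre ι U ↔ ι u ∈ U := by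
  constructor
  · rintro ⟨w, hw, e⟩
    rw [← Subtype.ext e]; exact hw
  · intro h; exact ⟨u, h, rfl⟩

theorem exists_pre {U : Subgroup G} {u : L5} (h : u ∈ pre ι U) : ∃ w : CC, (w : L5) = u ∧ ι w ∈ U := by
  obtain ⟨w, hw, e⟩ := h
  exact ⟨w, e, hw⟩

/-- `CC` acts on `img ι R1` -/
theorem range_le_R1 : ι.range ≤ normalizer (img ι R1 : Set G) := by
  have key : ∀ u : CC, ∀ x ∈ img ι R1, ι u * x * (ι u)⁻¹ ∈ img ι R1 := by
    intro u x hx
    obtain ⟨w, hw, rfl⟩ := mem_img.1 hx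
    rw [← map_inv, ← map_mul, ← map_mul, mem_img]
    exact ⟨u * w * u⁻¹, R1_conj u.2 hw, rfl⟩
  rintro _ ⟨u, rfl⟩
  rw [mem_normalizer_iff]
  intro x
  refine ⟨key u x, fun hx => ?_⟩
  have h1 := key u⁻¹ _ hx
  have e : ι u⁻¹ * (ι u * x * (ι u)⁻¹) * (ι u⁻¹)⁻¹ = x := by rw [map_inv]; group
  rwa [e] at h1

/-- `zz` as an element of `CC` is in the image of every normal subgroup considered -/
theorem z_mem_img (h : Hyp z ι) {A : Subgroup L5} (hz : zz ∈ A) : z ∈ img ι A := by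
  rw [← h.map_zz, mem_img]; exact ⟨zC, hz, rfl⟩

/-- the configuration of the Held group -/
structure Ctx (z : G) (ι : CC →* G) : Prop where
  hyp : Hyp z ι
  nm : ¬ IsConj z (ι vC)
  y1 : ∃ y : G, y * z * y⁻¹ ∈ img ι R1 ∧ y ∉ normalizer (img ι R1 : Set G)
  y2 : ∃ y : G, y * z * y⁻¹ ∈ img ι R2 ∧ y ∉ normalizer (img ι R2 : Set G)

theorem img_tau_R1 : img (ι.comp tauC) R1 = img ι R2 :=
  img_tau R1 R2 (fun _ h => tau_mem_R2 h) (fun _ h => tau_mem_R1 h)

theorem img_tau_R2 : img (ι.comp tauC) R2 = img ι R1 :=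
  img_tau R2 R1 (fun _ h => tau_mem_R1 h) (fun _ h => tau_mem_R2 h)

theorem x_ne_one {i j : Fin 5} (h : i ≠ j) : x i j h ≠ 1 := by
  intro e
  have h1 := congrArg cd e
  rw [cdx, cd_one, one_five] at h1
  have h2 : 0 < 2 ^ (5 * (i : ℕ) + j) := Nat.two_pow_pos _
  omega

theorem x_ne_zz {i j : Fin 5} (h : i ≠ j) (hij : ¬ (i = 0 ∧ j = 4)) : x i j h ≠ zz := by
  intro e
  have h1 := congrArg cd e
  rw [zz, cdx, cdx] at h1
  have h2 : 2 ^ (5 * (i : ℕ) + j) = 2 ^ (5 * ((0 : Fin 5) : ℕ) + (4 : Fin 5)) := by omega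
  have h3 := Nat.pow_right_injective le_rfl h2
  apply hij
  revert h3
  revert i j
  decide

theorem x02_mem : x 0 2 ∈ R1 := by rw [mem_R1_iff, cdx]; decide +kernel
theorem x24_mem : x 2 4 ∈ R2 := by
  have h := tau_mem_R2 x02_mem
  rwa [(tau_x' 0 2 2 4 (by decide) rfl rfl).2] at h
theorem x01_mem : x 0 1 ∈ R1 := by rw [mem_R1_iff, cdx]; decide +kernel
theorem x34_mem : x 3 4 ∈ R2 := by
  have h := tau_mem_R2 x01_mem
  rwa [(tau_x' 0 1 3 4 (by decide) rfl rfl).2] at h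

/-- the image of `x01 x24` under the graph automorphism is conjugate to it -/
theorem conj_tau : ∃ p : CC, p * tauC vC * p⁻¹ = vC := by
  have e : ((tauC vC : CC) : L5) = x 3 4 * x 0 2 := by
    show tau (x 0 1 * x 2 4) = _
    rw [map_mul, (tau_x' 0 1 3 4 (by decide) rfl rfl).2, (tau_x' 2 4 0 2 (by decide) rfl rfl).2]
  have hc : x 0 2 * x 3 4 = x 3 4 * x 0 2 := by
    apply cd_inj
    rw [cd_mul, cd_mul, cdx, cdx]; decide +kernel
  obtain ⟨p, hp, he⟩ := pair_conj x02_mem (x_ne_one _) (x_ne_zz _ (by decide)) x34_mem (x_ne_one _)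
    (x_ne_zz _ (by decide)) hc
  refine ⟨⟨p, hp⟩, Subtype.ext ?_⟩
  show p * ((tauC vC : CC) : L5) * p⁻¹ = x 0 1 * x 2 4
  rw [e, ← hc, he]

theorem Ctx.tau (c : Ctx z ι) : Ctx z (ι.comp tauC) where
  hyp := c.hyp.tau
  nm := by
    intro h
    apply c.nm
    obtain ⟨p, hp⟩ := conj_tau
    refine h.trans (isConj_iff.2 ⟨ι p, ?_⟩)
    show ι p * ι (tauC vC) * (ι p)⁻¹ = ι vC
    rw [← map_inv, ← map_mul, ← map_mul, hp]
  y1 := by rw [img_tau_R1]; exact c.y2
  y2 := by rw [img_tau_R2]; exact c.y1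

theorem z_ne (h : Hyp z ι) : z ≠ 1 := by
  intro e
  have h1 : ι zC = ι 1 := by rw [h.map_zz, e, map_one]
  exact zz_ne_one (congrArg Subtype.val (h.inj h1))

theorem mem_range (h : Hyp z ι) {g : G} : g ∈ ι.range ↔ g * z = z * g := by
  rw [h.range, mem_centralizer_singleton_iff]

/-- **`N(R1) ≤ C(z)`** -/
theorem Ctx.normalizer_R1 (c : Ctx z ι) : normalizer (img ι R1 : Set G) ≤ centralizer {z} := by
  by_contra hcon
  obtain ⟨n, hn, hnz⟩ := SetLike.not_le_iff_exists.1 hcon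
  rw [mem_centralizer_singleton_iff] at hnz
  have hzR : z ∈ img ι R1 := z_mem_img c.hyp zz_mem_R1
  have ha := (mem_normalizer_iff.1 hn z).1 hzR
  obtain ⟨a, haR, hae⟩ := mem_img.1 ha
  have ha1 : (a : L5) ≠ 1 := by
    intro h
    have h1 : a = 1 := Subtype.ext h
    rw [h1, map_one] at hae
    apply z_ne c.hyp
    calc z = n⁻¹ * (n * z * n⁻¹) * n := by group
      _ = 1 := by rw [← hae]; group
  have haz : (a : L5) ≠ zz := by
    intro h
    have h1 : a = zC := Subtype.ext h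
    rw [h1, c.hyp.map_zz] at hae
    exact hnz (mul_inv_eq_iff_eq_mul.1 hae.symm)
  have key : ∀ b ∈ img ι R1, b ≠ 1 → ∃ w ∈ normalizer (img ι R1 : Set G), w * b * w⁻¹ = z := by
    intro b hb hb1
    obtain ⟨b', hbR, rfl⟩ := mem_img.1 hb
    by_cases hbz : (b' : L5) = zz
    · have h1 : b' = zC := Subtype.ext hbz
      refine ⟨1, one_mem _, ?_⟩
      rw [h1, c.hyp.map_zz]; group
    · have hb1' : (b' : L5) ≠ 1 := fun h => hb1 (by
        have h1 : b' = 1 := Subtype.ext h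
        rw [h1, map_one])
      obtain ⟨p, hp, he⟩ := trans_R1 hbR hb1' hbz haR ha1 haz
      refine ⟨n⁻¹ * ι ⟨p, hp⟩, mul_mem (inv_mem hn) (range_le_R1 ⟨_, rfl⟩), ?_⟩
      have h1 : (⟨p, hp⟩ : CC) * b' * (⟨p, hp⟩ : CC)⁻¹ = a := Subtype.ext he
      calc n⁻¹ * ι ⟨p, hp⟩ * ι b' * (n⁻¹ * ι ⟨p, hp⟩)⁻¹ = n⁻¹ * (ι ⟨p, hp⟩ * ι b' * (ι ⟨p, hp⟩)⁻¹) * n := by group
        _ = n⁻¹ * (n * z * n⁻¹) * n := by rw [← map_inv, ← map_mul, ← map_mul, h1, hae]
        _ = z := by group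
  obtain ⟨y, hy, hyn⟩ := c.y1
  have hy1 : y * z * y⁻¹ ≠ 1 := by
    intro h
    apply z_ne c.hyp
    calc z = y⁻¹ * (y * z * y⁻¹) * y := by group
      _ = 1 := by rw [h]; group
  obtain ⟨w, hw, he⟩ := key _ hy hy1
  apply hyn
  have h1 : w * y ∈ ι.range := by
    rw [mem_range c.hyp]
    calc w * y * z = w * (y * z * y⁻¹) * w⁻¹ * (w * y) := by group
      _ = z * (w * y) := by rw [he]
  have h2 := mul_mem (inv_mem hw) (range_le_R1 h1)
  rwa [inv_mul_cancel_left] at h2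

/-- involutions of `QQ` outside `R1` and `R2` are conjugate to `x01 x24` -/
theorem conj_mixed {u : CC} (hQ : (u : L5) ∈ QQ) (h2 : u * u = 1) (h1 : (u : L5) ∉ R1) (h3 : (u : L5) ∉ R2) :
    ∃ p : CC, p * u * p⁻¹ = vC := by
  obtain ⟨a, ha, b, hb, e⟩ := exists_mul' hQ
  have haa : a * a = 1 := by
    obtain ⟨f, rfl⟩ := mem_R1_low'.1 ha
    exact ro_sq f
  have hbb : b * b = 1 := by
    obtain ⟨f, hf⟩ := mem_R1_low'.1 (tau_mem_R1 hb)
    have h4 : tau (b * b) = 1 := by rw [map_mul, hf, ro_sq]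
    have h5 := congrArg tau h4
    rwa [tau_tau, map_one] at h5
  have huu : (a * b) * (a * b) = 1 := by
    rw [← e]; exact congrArg Subtype.val h2
  have hc : a * b = b * a := by
    have h4 : (a * b)⁻¹ = a * b := inv_eq_of_mul_eq_one_left huu
    rw [← h4, mul_inv_rev, inv_eq_of_mul_eq_one_left haa, inv_eq_of_mul_eq_one_left hbb]
  obtain ⟨p, hp, he⟩ := pair_conj ha (by
      rintro rfl; rw [one_mul] at e; exact h3 (e ▸ hb)) (by
      rintro rfl; exact h3 (e ▸ R2.mul_mem zz_mem_R2 hb)) hb (by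
      rintro rfl; rw [mul_one] at e; exact h1 (e ▸ ha)) (by
      rintro rfl; exact h1 (e ▸ R1.mul_mem ha zz_mem_R1)) hc
  refine ⟨⟨p, hp⟩, Subtype.ext ?_⟩
  show p * (u : L5) * p⁻¹ = x 0 1 * x 2 4
  rw [e, he]

variable [Finite G]

/-- the hypotheses on `U` -/
structure UU (z : G) (ι : CC →* G) (U : Subgroup G) : Prop where
  le : U ≤ img ι T0
  norm : img ι T0 ≤ normalizer (U : Set G)
  sq : ∀ u ∈ U, u * u = 1
  mem : z ∈ U

omit [Finite G] in
theorem UU.tau {U : Subgroup G} (hU : UU z ι U) : UU z (ι.comp tauC) U where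
  le := by rw [img_tau_T0]; exact hU.le
  norm := by rw [img_tau_T0]; exact hU.norm
  sq := hU.sq
  mem := hU.mem

omit [Finite G] in
theorem UU.nrm (h : Hyp z ι) {U : Subgroup G} (hU : UU z ι U) : Nrm (pre ι U) where
  le := by
    intro u hu
    obtain ⟨w, rfl, hw⟩ := exists_pre hu
    exact (ι_mem_img h).1 (hU.le hw)
  norm := by
    intro t ht a ha
    obtain ⟨w, rfl, hw⟩ := exists_pre ha
    have h1 : t * (w : L5) * t⁻¹ = ((⟨t, T0_le_CC ht⟩ * w * ⟨t, T0_le_CC ht⟩⁻¹ : CC) : L5) := rfl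
    rw [h1, mem_pre, map_mul, map_mul, map_inv]
    exact (mem_normalizer_iff.1 (hU.norm (mem_img.2 ⟨⟨t, T0_le_CC ht⟩, ht, rfl⟩)) _).1 hw
  sq := by
    intro a ha
    obtain ⟨w, rfl, hw⟩ := exists_pre ha
    have h1 := hU.sq _ hw
    rw [← map_mul, ← map_one ι] at h1
    exact congrArg Subtype.val (h.inj h1)

omit [Finite G] in
theorem UU.zz_mem (h : Hyp z ι) {U : Subgroup G} (hU : UU z ι U) : zz ∈ pre ι U := by
  have : ((zC : CC) : L5) ∈ pre ι U := mem_pre.2 (by rw [h.map_zz]; exact hU.mem)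
  exact this

/-- `V1` is weakly closed -/
theorem norm_of_weak (h : Hyp z ι) {T : Sylow 2 G} (hT : (T : Subgroup G) = img ι T0) (g : G)
    (hg : ∀ v ∈ img ι V1, g * v * g⁻¹ ∈ (T : Subgroup G)) : g ∈ normalizer (img ι V1 : Set G) := by
  rw [hT] at hg
  have h1 := weak_V1 h g hg
  have h2 : (img ι V1).map (MulAut.conj g).toMonoidHom = img ι V1 := by
    apply Subgroup.eq_of_le_of_card_ge
    · rintro _ ⟨v, hv, rfl⟩
      exact h1 v hv
    · rw [Subgroup.card_map_of_injective (MulAut.conj g).injective]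
  rw [mem_normalizer_iff]
  intro x
  refine ⟨h1 x, fun hx => ?_⟩
  rw [← h2] at hx
  obtain ⟨y, hy, e⟩ := hx
  have h3 : y = x := (MulAut.conj g).injective e
  rw [← h3]; exact hy

/-- `N(U) ≤ N(V1)` for `U ≤ V1` if `C_CC(U)` is block upper triangular -/
theorem normV1 (h : Hyp z ι) {T : Sylow 2 G} (hT : (T : Subgroup G) = img ι T0) {U : Subgroup G} (hU : UU z ι U)
    (hV : U ≤ img ι V1) (hup : ∀ g ∈ CC, (∀ a ∈ pre ι U, g * a = a * g) → Up g) :
    normalizer (U : Set G) ≤ normalizer (img ι V1 : Set G) := by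
  have hcomm : ∀ x ∈ img ι V1, ∀ y ∈ img ι V1, x * y = y * x := by
    intro x hx y hy
    obtain ⟨u, hu, rfl⟩ := mem_img.1 hx
    obtain ⟨v, hv, rfl⟩ := mem_img.1 hy
    rw [← map_mul, ← map_mul]
    congr 1
    exact Subtype.ext (comm_of_V1 hu hv)
  apply normalizer_le T (by rw [hT]; exact hU.norm) (by rw [hT]; exact img_mono V1_le_T0) (norm_of_weak h hT)
  · intro v hv
    rw [mem_centralizer_iff]
    intro u hu
    exact hcomm u (hV hu) v hv
  · -- `C(U) ≤ C(z)`
    have key : ∀ g ∈ centralizer (U : Set G), ∀ x ∈ img ι V1, g * x * g⁻¹ ∈ img ι V1 := by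
      intro g hg x hx
      have h1 : g ∈ ι.range := by
        rw [mem_range h]
        exact (mem_centralizer_iff.1 hg z hU.mem).symm
      obtain ⟨w, rfl⟩ := h1
      obtain ⟨v, hv, rfl⟩ := mem_img.1 hx
      have h2 : ∀ w' : CC, ι w' ∈ centralizer (U : Set G) → Up (w' : L5) := by
        intro w' hw'
        apply hup _ w'.2
        intro a ha
        obtain ⟨b, rfl, hb⟩ := exists_pre ha
        have h3 := mem_centralizer_iff.1 hw' _ hb
        rw [← map_mul, ← map_mul] at h3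
        exact (congrArg Subtype.val (h.inj h3)).symm
      rw [← map_inv, ← map_mul, ← map_mul, mem_img]
      refine ⟨w * v * w⁻¹, conj_V1 w.2 (h2 w hg) ?_ hv, rfl⟩
      have h3 := h2 w⁻¹ (by rw [map_inv]; exact inv_mem hg)
      exact h3
    intro g hg
    rw [mem_normalizer_iff]
    intro x
    refine ⟨key g hg x, fun hx => ?_⟩
    have h1 := key g⁻¹ (inv_mem hg) _ hx
    have e : g⁻¹ * (g * x * g⁻¹) * g⁻¹⁻¹ = x := by group
    rwa [e] at h1

omit [Finite G] in
theorem pre_le_V1 (h : Hyp z ι) {U : Subgroup G} {A : Subgroup L5} (hV : U ≤ img ι A) : pre ι U ≤ A := by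
  intro u hu
  obtain ⟨w, rfl, hw⟩ := exists_pre hu
  exact (ι_mem_img h).1 (hV hw)

omit [Finite G] in
theorem le_img (h : Hyp z ι) {U : Subgroup G} (hU : UU z ι U) {A : Subgroup L5} (hA : pre ι U ≤ A) : U ≤ img ι A := by
  intro x hx
  obtain ⟨w, -, rfl⟩ := mem_img.1 (hU.le hx)
  rw [ι_mem_img h]
  exact hA (mem_pre.2 hx)

/-- the case `U ≤ V1` -/
theorem caseV (h : Hyp z ι) {T : Sylow 2 G} (hT : (T : Subgroup G) = img ι T0) {U : Subgroup G} (hU : UU z ι U)
    (hV : U ≤ img ι V1) :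
    normalizer (U : Set G) ≤ centralizer {z} ∨ normalizer (U : Set G) ≤ normalizer (img ι V1 : Set G) ∨
      normalizer (U : Set G) ≤ normalizer (img ι V2 : Set G) := by
  by_cases hne : ∃ a ∈ pre ι U, a ≠ 1 ∧ a ≠ zz
  · right
    rcases (hU.nrm h).dich (pre_le_V1 h hV) (hU.zz_mem h) hne with h1 | ⟨h1, h2⟩
    · left; exact normV1 h hT hU hV h1
    · right
      rw [← img_tau_V1]
      have h3 : U ≤ img (ι.comp tauC) V1 := by rw [img_tau_V1]; exact le_img h hU h1
      refine normV1 h.tau (by rw [hT, img_tau_T0]) hU.tau h3 ?_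
      intro g hg hc
      have h14 : x 1 4 ∈ V1 := by rw [mem_V1_iff, cdx]; decide +kernel
      have h4 : x 1 4 ∈ pre (ι.comp tauC) U := by
        have h5 : ((⟨x 1 4, V1_le_CC h14⟩ : CC) : L5) ∈ pre (ι.comp tauC) U := by
          rw [mem_pre]
          obtain ⟨w, hw, hwU⟩ := exists_pre h2
          have h6 : tauC ⟨x 1 4, V1_le_CC h14⟩ = w := by
            apply Subtype.ext
            show tau (x 1 4) = _
            rw [hw, (tau_x' 1 4 0 3 (by decide) rfl rfl).2]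
          show ι (tauC ⟨x 1 4, V1_le_CC h14⟩) ∈ U
          rw [h6]; exact hwU
        exact h5
      refine up_of_comm hg h14 (j := 4) ?_ (by decide) (hc _ h4)
      show ((x 1 4 : L5) : Matrix (Fin 5) (Fin 5) (ZMod 2)) 1 4 = 1
      rw [coe_x, transvection_apply']
      decide
  · left
    push Not at hne
    have h1 : ∀ u ∈ U, u = 1 ∨ u = z := by
      intro u hu
      obtain ⟨w, hw, rfl⟩ := mem_img.1 (hU.le hu)
      by_cases h2 : (w : L5) = 1
      · left
        have h3 : w = 1 := Subtype.ext h2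
        rw [h3, map_one]
      · right
        have h3 : w = zC := Subtype.ext (hne _ (mem_pre.2 hu) h2)
        rw [h3, h.map_zz]
    intro g hg
    rw [mem_centralizer_singleton_iff]
    have h2 := (mem_normalizer_iff.1 hg z).1 hU.mem
    rcases h1 _ h2 with h3 | h3
    · exfalso
      apply z_ne h
      calc z = g⁻¹ * (g * z * g⁻¹) * g := by group
        _ = 1 := by rw [h3]; group
    · exact mul_inv_eq_iff_eq_mul.1 h3

omit [Finite G] in
/-- the case of a conjugate of `z` in `U` with entry `(0, 1)` -/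
theorem Ctx.caseR (c : Ctx z ι) {U : Subgroup G} (hU : UU z ι U) {y : G} (hy : y ∈ U) (hyz : IsConj z y)
    {u : CC} (hu : ι u = y) (h01 : mt (u : L5) 0 1 = 1) : normalizer (U : Set G) ≤ centralizer {z} := by
  have hN := hU.nrm c.hyp
  have huA : (u : L5) ∈ pre ι U := mem_pre.2 (by rw [hu]; exact hy)
  have hQ := hN.QQ_of huA h01
  have hsq : u * u = 1 := Subtype.ext (hN.sq _ huA)
  have h2 : (u : L5) ∉ R2 := by
    intro h
    have h3 : mt (u : L5) 0 1 = (1 : Matrix (Fin 5) (Fin 5) (ZMod 2)) 0 1 := pat_entry h (by decide)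
    rw [h01] at h3
    revert h3; decide
  have h1 : (u : L5) ∈ R1 := by
    by_contra h
    obtain ⟨p, hp⟩ := conj_mixed hQ hsq h h2
    apply c.nm
    refine hyz.trans (isConj_iff.2 ⟨ι p, ?_⟩)
    rw [← hu, ← map_inv, ← map_mul, ← map_mul, hp]
  have hle := hN.R1_le huA h1 h01
  have hAR : pre ι U ≤ R1 := by
    intro a ha
    exact cent_R1 (T0_le_CC (hN.le ha)) fun e he => hN.comm ha (hle he)
  have hUR : U = img ι R1 := by
    apply le_antisymm (le_img c.hyp hU hAR)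
    intro x hx
    obtain ⟨w, hw, rfl⟩ := mem_img.1 hx
    exact mem_pre.1 (hle hw)
  rw [hUR]
  exact c.normalizer_R1

/-- the pattern of the elements of `T0` without entries `(0, 1)`, `(3, 4)` -/
def PE (i j : Fin 5) : Bool := decide (i < j) && !(decide (i = 0) && decide (j = 1)) && !(decide (i = 3) && decide (j = 4))

def TE : Subgroup L5 := pat PE (by decide)

/-- **The 2-local overgroups of `T`** -/
theorem Ctx.over (c : Ctx z ι) {T : Sylow 2 G} (hT : (T : Subgroup G) = img ι T0) {H : Subgroup G}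
    (hTH : (T : Subgroup G) ≤ H) (hH : pCore 2 ↥H ≠ ⊥) :
    H ≤ centralizer {z} ∨ H ≤ normalizer (img ι V1 : Set G) ∨ H ≤ normalizer (img ι V2 : Set G) := by
  have h2 : Fact (Nat.Prime 2) := ⟨Nat.prime_two⟩
  set R : Subgroup G := (pCore 2 ↥H).map H.subtype with hR
  have hRT : R ≤ (T : Subgroup G) := map_pCore_le_sylow T hTH
  have hHR : H ≤ normalizer (R : Set G) := le_normalizer_map_pCore 2 H
  have hRne : R ≠ ⊥ := map_pCore_ne_bot hH
  have hzz : z * z = 1 := by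
    rw [← c.hyp.map_zz, ← map_mul]
    have : zC * zC = 1 := Subtype.ext zz_sq
    rw [this, map_one]
  have hTz : ∀ t ∈ (T : Subgroup G), t * z = z * t := by
    intro t ht
    rw [hT] at ht
    obtain ⟨w, -, rfl⟩ := mem_img.1 ht
    exact c.hyp.comm w
  -- `z ∈ R`
  have hzR : z ∈ R := by
    have hn' : (R.subgroupOf (T : Subgroup G)).Normal :=
      (normal_subgroupOf_iff_le_normalizer hRT).2 (hTH.trans hHR)
    have hnil : Group.IsNilpotent (T : Subgroup G) := T.isPGroup'.isNilpotent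
    have hne' : R.subgroupOf (T : Subgroup G) ≠ ⊥ := by
      intro h
      apply hRne
      rw [subgroupOf_eq_bot] at h
      exact h.eq_bot_of_le hRT
    obtain ⟨⟨y, hyR, hyc⟩, hy1⟩ := (Subgroup.ne_bot_iff_exists_ne_one).1
      (Lib.NormalAbelian.normal_inf_center_ne_bot _ hne')
    have hy1' : (y : G) ≠ 1 := fun h => hy1 (Subtype.ext (Subtype.ext h))
    have hyT : (y : G) ∈ img ι T0 := hT.le y.2
    obtain ⟨w, hw, he⟩ := mem_img.1 hyT
    have h3 : ∀ t ∈ T0, (w : L5) * t = t * (w : L5) := by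
      intro t ht
      have h4 := mem_center_iff.1 hyc ⟨ι ⟨t, T0_le_CC ht⟩, by rw [hT]; exact mem_img.2 ⟨_, ht, rfl⟩⟩
      have h5 : ι ⟨t, T0_le_CC ht⟩ * (y : G) = y * ι ⟨t, T0_le_CC ht⟩ := congrArg Subtype.val h4
      rw [← he, ← map_mul, ← map_mul] at h5
      exact (congrArg Subtype.val (c.hyp.inj h5)).symm
    rcases centralizer_T0 w.2 h3 with h4 | h4
    · exfalso
      apply hy1'
      have h5 : w = 1 := Subtype.ext h4
      rw [← he, h5, map_one]
    · have h5 : w = zC := Subtype.ext h4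
      rw [← c.hyp.map_zz, ← h5, he]
      exact mem_subgroupOf.1 hyR
  have hzU : z ∈ H4.Lf.UU H := H4.Lf.mem_omega.2 ⟨hzR, fun r hr => hTz r (hRT hr), hzz⟩
  have hN : H ≤ normalizer (H4.Lf.UU H : Set G) := hHR.trans (H4.Lf.normalizer_le_omega R)
  -- the subgroup generated by the conjugates of `z`
  set U : Subgroup G := Subgroup.closure {y | ∃ g ∈ H, g * z * g⁻¹ = y} with hUdef
  have hgen : ∀ y, (∃ g ∈ H, g * z * g⁻¹ = y) → y ∈ H4.Lf.UU H := by
    rintro _ ⟨g, hg, rfl⟩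
    exact (mem_normalizer_iff.1 (hN hg) z).1 hzU
  have hUle : U ≤ H4.Lf.UU H := by
    rw [hUdef, closure_le]
    exact fun y hy => hgen y hy
  have hHU : H ≤ normalizer (U : Set G) := by
    have key : ∀ g ∈ H, ∀ x ∈ U, g * x * g⁻¹ ∈ U := by
      intro g hg x hx
      have h3 : U ≤ U.comap (MulAut.conj g).toMonoidHom := by
        rw [hUdef, closure_le]
        rintro _ ⟨k, hk, rfl⟩
        apply Subgroup.subset_closure
        refine ⟨g * k, mul_mem hg hk, ?_⟩
        show g * k * z * (g * k)⁻¹ = g * (k * z * k⁻¹) * g⁻¹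
        group
      exact h3 hx
    intro g hg
    rw [mem_normalizer_iff]
    intro x
    refine ⟨key g hg x, fun hx => ?_⟩
    have h1 := key g⁻¹ (inv_mem hg) _ hx
    have e : g⁻¹ * (g * x * g⁻¹) * g⁻¹⁻¹ = x := by group
    rwa [e] at h1
  have hU : UU z ι U := by
    refine ⟨?_, ?_, ?_, ?_⟩
    · rw [← hT]
      exact fun x hx => hRT (H4.Lf.mem_omega.1 (hUle hx)).1
    · rw [← hT]
      exact hTH.trans hHU
    · exact fun x hx => (H4.Lf.mem_omega.1 (hUle hx)).2.2
    · exact Subgroup.subset_closure ⟨1, one_mem _, by group⟩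
  have hconj : ∀ y, (∃ g ∈ H, g * z * g⁻¹ = y) → IsConj z y := by
    rintro _ ⟨g, -, rfl⟩
    exact isConj_iff.2 ⟨g, rfl⟩
  by_cases h1 : ∃ y, (∃ g ∈ H, g * z * g⁻¹ = y) ∧ ∃ u : CC, ι u = y ∧ mt (u : L5) 0 1 = 1
  · left
    obtain ⟨y, hy, u, hu, he⟩ := h1
    exact hHU.trans (c.caseR hU (subset_closure hy) (hconj y hy) hu he)
  by_cases h3 : ∃ y, (∃ g ∈ H, g * z * g⁻¹ = y) ∧ ∃ u : CC, ι u = y ∧ mt (u : L5) 3 4 = 1
  · left
    obtain ⟨y, hy, u, hu, he⟩ := h3
    refine hHU.trans (c.tau.caseR hU.tau (subset_closure hy) (hconj y hy) (u := tauC u) ?_ ?_)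
    · show ι (tauC (tauC u)) = y
      rw [tauC_tauC, hu]
    · have huA : (u : L5) ∈ pre ι U := mem_pre.2 (by rw [hu]; exact subset_closure hy)
      have hsq := (hU.nrm c.hyp).sq _ huA
      show ((Cfsg.Agent.SporadicRecognition.HeldModel.tau (u : L5) : L5) : Matrix (Fin 5) (Fin 5) (ZMod 2)) 0 1 = 1
      rw [tau_apply, inv_eq_of_mul_eq_one_left hsq]
      exact he
  push Not at h1 h3
  have hTE : U ≤ img ι TE := by
    rw [hUdef, closure_le]
    intro y hy
    have hyU : y ∈ U := subset_closure hy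
    obtain ⟨w, hw, rfl⟩ := mem_img.1 (hU.le hyU)
    rw [SetLike.mem_coe, mem_img]
    refine ⟨w, ?_, rfl⟩
    intro i j hij
    by_cases hp : PT i j = false
    · exact hw i j hp
    · have hlt : i < j := by
        by_contra hlt
        apply hp; simp [PT, hlt]
      have h4 : (i = 0 ∧ j = 1) ∨ (i = 3 ∧ j = 4) := by
        revert hij hlt; revert i j; decide
      rcases h4 with ⟨rfl, rfl⟩ | ⟨rfl, rfl⟩
      · have h5 : mt (w : L5) 0 1 = 0 := (zmod2_cases _).resolve_right (h1 _ hy w rfl)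
        rw [Matrix.sub_apply, Matrix.one_apply_ne (by decide), sub_zero]
        exact h5
      · have h5 : mt (w : L5) 3 4 = 0 := (zmod2_cases _).resolve_right (h3 _ hy w rfl)
        rw [Matrix.sub_apply, Matrix.one_apply_ne (by decide), sub_zero]
        exact h5
  have hE : ∀ u ∈ pre ι U, mt u 0 1 = 0 ∧ mt u 3 4 = 0 := by
    intro u hu
    have h4 : u ∈ TE := pre_le_V1 c.hyp hTE hu
    have h5 := pat_entry h4 (i := 0) (j := 1) (by decide)
    have h6 := pat_entry h4 (i := 3) (j := 4) (by decide)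
    rw [Matrix.one_apply_ne (by decide)] at h5 h6
    exact ⟨h5, h6⟩
  rcases (hU.nrm c.hyp).le_or hE with h4 | h4
  · rcases caseV c.hyp hT hU (le_img c.hyp hU h4) with h5 | h5 | h5
    · exact Or.inl (hHU.trans h5)
    · exact Or.inr (Or.inl (hHU.trans h5))
    · exact Or.inr (Or.inr (hHU.trans h5))
  · have h6 : U ≤ img (ι.comp tauC) V1 := by rw [img_tau_V1]; exact le_img c.hyp hU h4
    rcases caseV c.hyp.tau (by rw [hT, img_tau_T0]) hU.tau h6 with h5 | h5 | h5
    · exact Or.inl (hHU.trans h5)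
    · rw [img_tau_V1] at h5; exact Or.inr (Or.inr (hHU.trans h5))
    · rw [img_tau_V2] at h5; exact Or.inr (Or.inl (hHU.trans h5))

end

end Cfsg.Agent.H6.HeOver
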