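import Cfsg.Agent.H6.He.HexW
import Cfsg.Agent.H6.He.Over
import Cfsg.Agent.KFacts.He.TwoACent
import Cfsg.Agent.KFacts.He.InvolAut
import Cfsg.Agent.KFacts.He.Cent
import Cfsg.Agent.QTUnique.He

/-!
# The configuration of the presented Held group: `Ctx z ι` and the general construction of a `Frame` (helper6)

* `nm`: `x01 x24` is not conjugate to `z` (its centralizer contains an element of order 5);
* `ctx : Ctx z ι`;
* `mk`: a `Frame` from words in the sixteen letters, all relations being checked on the four base points.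
-/

set_option autoImplicit false

namespace Cfsg.Agent.H6.HeWords

open Subgroup Cfsg Cfsg.Agent.SporadicRecognition.HeldModel Cfsg.Agent.KFacts.TwoSix.Base
  Cfsg.Agent.KFacts.TwoSix.Facts Cfsg.Agent.KFacts.TwoSix.U Cfsg.Agent.H6.HeElt Cfsg.Agent.H6.HeOver
  Cfsg.Agent.KFacts.He.InvolAut Cfsg.Agent.KFacts.He.Words Cfsg.Agent.KFacts.He.Hyp Cfsg.Agent.QTUnique.He
  Cfsg.Agent.SporadicRecognition.CosetCert Cfsg.Agent.Held.Letters Cfsg.Agent.KFacts.TwoSix.OfSt
  Cfsg.Agent.H6.HexW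
open Cfsg.Agent.KFacts.He.Bound (z)

/-! ### `z` and `v` are not conjugate -/

section

open Cfsg.Agent.KFacts.He.TwoACent Cfsg.Agent.KFacts.He.Lv Cfsg.Agent.SporadicB.HePerm Cfsg.Spor.He
  Cfsg.Agent.FixBN.HeStab

theorem five_dvd : 5 ∣ Nat.card (Subgroup.centralizer ({gn .a} : Set Cfsg.Spor.He)) := by
  have h5 : Fact (Nat.Prime 5) := ⟨by norm_num⟩
  have hL : wd [.c, .d, .e] ∈ KFacts.He.TwoACent.L := wd_mem_L (by decide)
  have hpow : wd [.c, .d, .e] ^ 5 = 1 := by
    have h := eq_of_chkB (v := [.c, .d, .e] ++ ([.c, .d, .e] ++ ([.c, .d, .e] ++ ([.c, .d, .e] ++ [.c, .d, .e])))) (w := [])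
      (by decide +kernel)
    rw [wd_append, wd_append, wd_append, wd_append, wd_nil] at h
    rw [← h]; simp only [pow_succ, pow_zero, one_mul, mul_assoc]
  have hne : wd [.c, .d, .e] ≠ 1 := by
    rw [← wd_nil]; exact ne_of_act 8 (by decide +kernel)
  have ho : orderOf (wd [.c, .d, .e]) = 5 := orderOf_eq_prime hpow hne
  have hm : wd [.c, .d, .e] ∈ Subgroup.centralizer ({gn .a} : Set Cfsg.Spor.He) := by
    rw [mem_centralizer_singleton_iff]; exact L_comm_a hL
  rw [← ho, ← Subgroup.orderOf_mk _ hm]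
  exact orderOf_dvd_natCard _

end

/-- `x01 x24` is not conjugate to `z` -/
theorem nm_v : ¬ IsConj z KFacts.He.Classes.v := by
  intro h
  have h1 : IsConj z (PresentedGroup.of Cfsg.Spor.He.Gen.a : Cfsg.Spor.He) :=
    h.trans (isConj_iff.2 ⟨_, KFacts.He.Classes.v_a⟩)
  obtain ⟨g, hg⟩ := isConj_iff.1 h1
  have h2 : Nat.card (Subgroup.centralizer ({z} : Set Cfsg.Spor.He)) =
      Nat.card (Subgroup.centralizer ({(PresentedGroup.of Cfsg.Spor.He.Gen.a : Cfsg.Spor.He)} : Set Cfsg.Spor.He)) := by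
    have h3 : (Subgroup.centralizer ({z} : Set Cfsg.Spor.He)).map (MulAut.conj g).toMonoidHom =
        Subgroup.centralizer ({(PresentedGroup.of Cfsg.Spor.He.Gen.a : Cfsg.Spor.He)} : Set Cfsg.Spor.He) := by
      ext y
      rw [mem_centralizer_singleton_iff, ← hg]
      constructor
      · rintro ⟨x, hx, rfl⟩
        rw [SetLike.mem_coe, mem_centralizer_singleton_iff] at hx
        show g * x * g⁻¹ * (g * z * g⁻¹) = g * z * g⁻¹ * (g * x * g⁻¹)
        calc g * x * g⁻¹ * (g * z * g⁻¹) = g * (x * z) * g⁻¹ := by group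
          _ = g * (z * x) * g⁻¹ := by rw [hx]
          _ = _ := by group
      · intro hy
        refine ⟨g⁻¹ * y * g, ?_, ?_⟩
        · rw [SetLike.mem_coe, mem_centralizer_singleton_iff]
          calc g⁻¹ * y * g * z = g⁻¹ * (y * (g * z * g⁻¹)) * g := by group
            _ = g⁻¹ * (g * z * g⁻¹ * y) * g := by rw [hy]
            _ = _ := by group
        · show g * (g⁻¹ * y * g) * g⁻¹ = y
          group
    rw [← h3, Subgroup.card_map_of_injective (MulAut.conj g).injective]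
  have h3 := KFacts.He.Cent.card_cent
  have h4 : 5 ∣ Nat.card (Subgroup.centralizer ({z} : Set Cfsg.Spor.He)) := by
    rw [h2]; exact five_dvd
  rw [h3] at h4
  omega

/-! ### Words -/

theorem E_gx {n : ℕ} (hn : n < 12) : E [n] = iota (gx xC n) := by
  rw [iota_xC n hn]
  show ev (gy xr y1 y2) [n] = _
  rw [ev_one, gy_of_lt _ _ _ hn]

theorem E_mem (A : Subgroup L5) (w : List ℕ) (h : ∀ n ∈ w, n < 12 ∧ ((gx xC n : CC) : L5) ∈ A) : E w ∈ img iota A := by
  induction w with
  | nil => rw [E_nil]; exact one_mem _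
  | cons a w ih =>
    rw [E_cons]
    refine mul_mem ?_ (ih fun n hn => h n (List.mem_cons_of_mem _ hn))
    rw [E_gx (h a List.mem_cons_self).1]
    exact mem_img.2 ⟨_, (h a List.mem_cons_self).2, rfl⟩

theorem z_eq : z = E [3] := (ev_one _ _).symm

theorem v_eq : KFacts.He.Classes.v = E [0, 8] := rfl

theorem c0 : ((gx xC 0 : CC) : L5) = x 0 1 := congrArg Subtype.val (xC_eq (i := 0) (j := 1) (by decide) (by decide) (by decide))
theorem c1 : ((gx xC 1 : CC) : L5) = x 0 2 := congrArg Subtype.val (xC_eq (i := 0) (j := 2) (by decide) (by decide) (by decide))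
theorem c2 : ((gx xC 2 : CC) : L5) = x 0 3 := congrArg Subtype.val (xC_eq (i := 0) (j := 3) (by decide) (by decide) (by decide))
theorem c3 : ((gx xC 3 : CC) : L5) = x 0 4 := congrArg Subtype.val (xC_eq (i := 0) (j := 4) (by decide) (by decide) (by decide))
theorem c4 : ((gx xC 4 : CC) : L5) = x 1 2 := congrArg Subtype.val (xC_eq (i := 1) (j := 2) (by decide) (by decide) (by decide))
theorem c5 : ((gx xC 5 : CC) : L5) = x 1 3 := congrArg Subtype.val (xC_eq (i := 1) (j := 3) (by decide) (by decide) (by decide))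
theorem c6 : ((gx xC 6 : CC) : L5) = x 1 4 := congrArg Subtype.val (xC_eq (i := 1) (j := 4) (by decide) (by decide) (by decide))
theorem c7 : ((gx xC 7 : CC) : L5) = x 2 3 := congrArg Subtype.val (xC_eq (i := 2) (j := 3) (by decide) (by decide) (by decide))
theorem c8 : ((gx xC 8 : CC) : L5) = x 2 4 := congrArg Subtype.val (xC_eq (i := 2) (j := 4) (by decide) (by decide) (by decide))
theorem c9 : ((gx xC 9 : CC) : L5) = x 3 4 := congrArg Subtype.val (xC_eq (i := 3) (j := 4) (by decide) (by decide) (by decide))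

theorem E_three {k m n : ℕ} (hk : k < 12) (hm : m < 12) (hn : n < 12) :
    E [k, m, n] = iota (gx xC k * (gx xC m * gx xC n)) := by
  rw [E_cons, E_gx hk, E_cons, E_gx hm, E_gx hn, map_mul, map_mul]

theorem y1_ex : ∃ y : Cfsg.Spor.He, y * z * y⁻¹ ∈ img iota R1 ∧ y ∉ normalizer (img iota R1 : Set Cfsg.Spor.He) := by
  refine ⟨E [13], ?_, ?_⟩
  · have h1 : E [13] * z * (E [13])⁻¹ = E [2, 3] := by
      rw [mul_inv_eq_iff_eq_mul, z_eq, ← E_append, ← E_append]
      exact E_eq (by decide +kernel)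
    rw [h1]
    apply E_mem
    intro n hn
    simp only [List.mem_cons, List.not_mem_nil, or_false] at hn
    rcases hn with rfl | rfl
    · refine ⟨by norm_num, ?_⟩
      rw [c2, mem_R1_iff, cdx]; decide +kernel
    · refine ⟨by norm_num, ?_⟩
      rw [c3, mem_R1_iff, cdx]; decide +kernel
  · intro h
    have h1 : E [13] * E [0] * (E [13])⁻¹ = E [0, 2, 7] := by
      rw [mul_inv_eq_iff_eq_mul, ← E_append, ← E_append]
      exact E_eq (by decide +kernel)
    have h2 : E [0] ∈ img iota R1 := by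
      apply E_mem
      intro n hn
      rw [List.mem_singleton] at hn
      subst hn
      refine ⟨by norm_num, ?_⟩
      rw [c0, mem_R1_iff, cdx]; decide +kernel
    have h3 := (mem_normalizer_iff.1 h _).1 h2
    rw [h1, E_three (by norm_num) (by norm_num) (by norm_num), ι_mem_img hyp] at h3
    have h4 : ((gx xC 0 * (gx xC 2 * gx xC 7) : CC) : L5) = x 0 1 * (x 0 3 * x 2 3) := by
      rw [← c0, ← c2, ← c7]; rfl
    rw [h4, mem_R1_iff, cd_mul, cd_mul, cdx, cdx, cdx] at h3
    exact absurd h3 (by decide +kernel)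

theorem mem_R2_iff' {g : L5} : g ∈ R2 ↔ inPf (msk' PR2) (cd g) = true := by
  rw [R2, mem_pat_iff]

theorem y2_ex : ∃ y : Cfsg.Spor.He, y * z * y⁻¹ ∈ img iota R2 ∧ y ∉ normalizer (img iota R2 : Set Cfsg.Spor.He) := by
  refine ⟨E [15], ?_, ?_⟩
  · have h1 : E [15] * z * (E [15])⁻¹ = E [3, 6] := by
      rw [mul_inv_eq_iff_eq_mul, z_eq, ← E_append, ← E_append]
      exact E_eq (by decide +kernel)
    rw [h1]
    apply E_mem
    intro n hn
    simp only [List.mem_cons, List.not_mem_nil, or_false] at hn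
    rcases hn with rfl | rfl
    · refine ⟨by norm_num, ?_⟩
      rw [c3, mem_R2_iff', cdx]; decide +kernel
    · refine ⟨by norm_num, ?_⟩
      rw [c6, mem_R2_iff', cdx]; decide +kernel
  · intro h
    have h1 : E [15] * E [9] * (E [15])⁻¹ = E [4, 6, 9] := by
      rw [mul_inv_eq_iff_eq_mul, ← E_append, ← E_append]
      exact E_eq (by decide +kernel)
    have h2 : E [9] ∈ img iota R2 := by
      apply E_mem
      intro n hn
      rw [List.mem_singleton] at hn
      subst hn
      refine ⟨by norm_num, ?_⟩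
      rw [c9, mem_R2_iff', cdx]; decide +kernel
    have h3 := (mem_normalizer_iff.1 h _).1 h2
    rw [h1, E_three (by norm_num) (by norm_num) (by norm_num), ι_mem_img hyp] at h3
    have h4 : ((gx xC 4 * (gx xC 6 * gx xC 9) : CC) : L5) = x 1 2 * (x 1 4 * x 3 4) := by
      rw [← c4, ← c6, ← c9]; rfl
    rw [h4, mem_R2_iff', cd_mul, cd_mul, cdx, cdx, cdx] at h3
    exact absurd h3 (by decide +kernel)

/-- **the configuration of the Held group** -/
theorem ctx : Ctx z iota where
  hyp := hyp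
  nm := by rw [iota_vC]; exact nm_v
  y1 := y1_ex
  y2 := y2_ex

/-! ### Frames from words -/

def cw (c : ZMod 2) (w : List ℕ) : List ℕ := if c = 1 then w else []

/-- the word of the vector `v` -/
def wv (b : Fin 6 → List ℕ) (v : W) : List ℕ :=
  cw v.1.1 (b 0) ++ (cw v.1.2 (b 1) ++ (cw v.2.1.1 (b 2) ++ (cw v.2.1.2 (b 3) ++ (cw v.2.2.1 (b 4) ++ cw v.2.2.2 (b 5)))))

/-- the word of a representative of the class -/
def bas (v : W) : List ℕ := if (HexW.cls v).isSome then [0, 8] else [3]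

theorem E_cw_add {w : List ℕ} (hw : E w * E w = 1) (c d : ZMod 2) : E (cw (c + d) w) = E (cw c w) * E (cw d w) := by
  have h0 : cw 0 w = [] := rfl
  have h1 : cw 1 w = w := rfl
  rcases zmod2_cases c with rfl | rfl <;> rcases zmod2_cases d with rfl | rfl
  · rw [add_zero, h0, E_nil, mul_one]
  · rw [zero_add, h0, E_nil, one_mul]
  · rw [add_zero, h0, E_nil, mul_one]
  · rw [show (1 : ZMod 2) + 1 = 0 from rfl, h0, h1, E_nil, hw]

theorem cw_comm {u v : List ℕ} (h : Commute (E u) (E v)) (c d : ZMod 2) : Commute (E (cw c u)) (E (cw d v)) := by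
  unfold cw
  split <;> split
  · exact h
  · rw [E_nil]; exact Commute.one_right _
  · rw [E_nil]; exact Commute.one_left _
  · rw [E_nil]

theorem E_wv_add {b : Fin 6 → List ℕ} (hs : ∀ i, E (b i) * E (b i) = 1) (hc : ∀ i j, Commute (E (b i)) (E (b j))) (u v : W) :
    E (wv b (u + v)) = E (wv b u) * E (wv b v) := by
  have c : ∀ i j x y, Commute (E (cw x (b i))) (E (cw y (b j))) := fun i j x y => cw_comm (hc i j) x y
  show E (cw (u.1.1 + v.1.1) (b 0) ++ (cw (u.1.2 + v.1.2) (b 1) ++ (cw (u.2.1.1 + v.2.1.1) (b 2) ++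
    (cw (u.2.1.2 + v.2.1.2) (b 3) ++ (cw (u.2.2.1 + v.2.2.1) (b 4) ++ cw (u.2.2.2 + v.2.2.2) (b 5)))))) = _
  unfold wv
  simp only [E_append]
  rw [E_cw_add (hs 0), E_cw_add (hs 1), E_cw_add (hs 2), E_cw_add (hs 3), E_cw_add (hs 4), E_cw_add (hs 5)]
  rw [(c 4 5 _ _).mul_mul_mul_comm, ((c 3 4 _ _).mul_right (c 3 5 _ _)).mul_mul_mul_comm,
    ((c 2 3 _ _).mul_right ((c 2 4 _ _).mul_right (c 2 5 _ _))).mul_mul_mul_comm,
    ((c 1 2 _ _).mul_right ((c 1 3 _ _).mul_right ((c 1 4 _ _).mul_right (c 1 5 _ _)))).mul_mul_mul_comm,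
    ((c 0 1 _ _).mul_right ((c 0 2 _ _).mul_right ((c 0 3 _ _).mul_right ((c 0 4 _ _).mul_right (c 0 5 _ _))))).mul_mul_mul_comm]

theorem mem_norm_of {G : Type*} [Group G] [Finite G] {V : Subgroup G} {g : G} (h : ∀ x ∈ V, g * x * g⁻¹ ∈ V) :
    g ∈ normalizer (V : Set G) := by
  have h2 : V.map (MulAut.conj g).toMonoidHom = V := by
    apply Subgroup.eq_of_le_of_card_ge
    · rintro _ ⟨v, hv, rfl⟩
      exact h v hv
    · rw [Subgroup.card_map_of_injective (MulAut.conj g).injective]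
  rw [mem_normalizer_iff]
  intro x
  refine ⟨h x, fun hx => ?_⟩
  rw [← h2] at hx
  obtain ⟨y, hy, e⟩ := hx
  have h3 : y = x := (MulAut.conj g).injective e
  rw [← h3]; exact hy

theorem wv_basis (b : Fin 6 → List ℕ) : wv b (e1, 0, 0) = b 0 ∧ wv b (ew, 0, 0) = b 1 ∧ wv b (0, e1, 0) = b 2 ∧
    wv b (0, ew, 0) = b 3 ∧ wv b (0, 0, e1) = b 4 ∧ wv b (0, 0, ew) = b 5 := by
  refine ⟨?_, ?_, ?_, ?_, ?_, ?_⟩ <;> simp [wv, cw, e1, ew]

/-- the image of a subgroup under a word, from the images of the basis -/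
theorem norm_of {b : Fin 6 → List ℕ} {V : Subgroup Cfsg.Spor.He} (hadd : ∀ u v, E (wv b (u + v)) = E (wv b u) * E (wv b v))
    (hV : ∀ g, g ∈ V ↔ ∃ w, E (wv b w) = g) {w6 : List ℕ} {I : Fin 6 → W}
    (h6 : ∀ i : Fin 6, E w6 * E (b i) = E (wv b (I i)) * E w6) : E w6 ∈ normalizer (V : Set Cfsg.Spor.He) := by
  have hz : E (wv b 0) = 1 := by
    have h1 := hadd 0 0
    rw [add_zero] at h1
    exact left_eq_mul.1 h1
  have key : ∀ w, E w6 * E (wv b w) * (E w6)⁻¹ ∈ V := by
    have hb : ∀ i, E w6 * E (b i) * (E w6)⁻¹ ∈ V := by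
      intro i
      rw [h6, mul_inv_cancel_right]
      exact (hV _).2 ⟨_, rfl⟩
    obtain ⟨t0, t1, t2, t3, t4, t5⟩ := wv_basis b
    apply induct (P := fun w => E w6 * E (wv b w) * (E w6)⁻¹ ∈ V)
    · intro u v hu hv
      have := mul_mem hu hv
      have e : E w6 * E (wv b u) * (E w6)⁻¹ * (E w6 * E (wv b v) * (E w6)⁻¹) = E w6 * E (wv b (u + v)) * (E w6)⁻¹ := by
        rw [hadd]; group
      rwa [e] at this
    · rw [hz, mul_one, mul_inv_cancel]; exact one_mem _
    · rw [t0]; exact hb 0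
    · rw [t1]; exact hb 1
    · rw [t2]; exact hb 2
    · rw [t3]; exact hb 3
    · rw [t4]; exact hb 4
    · rw [t5]; exact hb 5
  apply mem_norm_of
  intro x hx
  obtain ⟨w, rfl⟩ := (hV x).1 hx
  exact key w

theorem conj_cert {C v : List ℕ} {s : List ℕ} (h : eqW (C ++ s) (v ++ C) = true) : IsConj (E s) (E v) := by
  refine isConj_iff.2 ⟨E C, ?_⟩
  have h1 := E_eq h
  rw [E_append, E_append] at h1
  rw [h1, mul_inv_cancel_right]

/-- **A frame from words** -/
theorem mk {b : Fin 6 → List ℕ} {C : W → List ℕ} {V : Subgroup Cfsg.Spor.He} {σ : Equiv.Perm (Fin 6)} {w6 w2 : List ℕ}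
    {I6 I2 J6 J2 : Fin 6 → W}
    (hs : ∀ i, eqW (b i ++ b i) [] = true) (hc : ∀ i j, eqW (b i ++ b j) (b j ++ b i) = true)
    (hcert : ∀ v : W, v = 0 ∨ eqW (C v ++ bas v) (wv b v ++ C v) = true)
    (hV : Nat.card V = 64) (hbV : ∀ i, E (b i) ∈ V) (hcen : ∀ g, (∀ v ∈ V, g * v = v * g) → g ∈ V)
    (hσ : σ.IsCycle) (hσ' : σ.support = Finset.univ)
    (h6 : ∀ i : Fin 6, eqW (w6 ++ b i) (wv b (I6 i) ++ w6) = true) (h2 : ∀ i : Fin 6, eqW (w2 ++ b i) (wv b (I2 i) ++ w2) = true)
    (j6 : ∀ i : Fin 6, HexW.cls (J6 i) = some (σ i)) (k6 : ∀ i : Fin 6, eqW (w6 ++ wv b (rep i)) (wv b (J6 i) ++ w6) = true)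
    (j2 : ∀ i : Fin 6, HexW.cls (J2 i) = some (Equiv.swap 0 (σ 0) i))
    (k2 : ∀ i : Fin 6, eqW (w2 ++ wv b (rep i)) (wv b (J2 i) ++ w2) = true) :
    Frame z V (fun v => E (wv b v)) σ (E w6) (E w2) := by
  have hs' : ∀ i, E (b i) * E (b i) = 1 := by
    intro i
    rw [← E_append, ← E_nil]; exact E_eq (hs i)
  have hc' : ∀ i j, Commute (E (b i)) (E (b j)) := by
    intro i j
    show E (b i) * E (b j) = E (b j) * E (b i)
    rw [← E_append, ← E_append]; exact E_eq (hc i j)
  have hadd := E_wv_add hs' hc'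
  have hzero : E (wv b 0) = 1 := by
    have h1 := hadd 0 0
    rw [add_zero] at h1
    exact left_eq_mul.1 h1
  have hcj : ∀ v : W, v ≠ 0 → IsConj (E (bas v)) (E (wv b v)) := by
    intro v hv
    exact conj_cert ((hcert v).resolve_left hv)
  have hz1 : z ≠ 1 := z_ne_one
  have hv1 : E [0, 8] ≠ 1 := by rw [← v_eq]; exact v_ne
  have hbas : ∀ v, E (bas v) ≠ 1 := by
    intro v
    unfold bas
    split
    · exact hv1
    · rw [← z_eq]; exact hz1
  have hne : ∀ v : W, v ≠ 0 → E (wv b v) ≠ 1 := by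
    intro v hv h
    have h1 := hcj v hv
    rw [h] at h1
    exact hbas v (isConj_one_left.1 h1)
  have hinj : Function.Injective (fun v => E (wv b v)) := by
    intro u v huv
    have huv' : E (wv b u) = E (wv b v) := huv
    by_contra hne'
    have h1 : u + v ≠ 0 := by
      intro h
      apply hne'
      have h2 : v + v = 0 := (by decide +kernel : ∀ w : W, w + w = 0) v
      exact add_right_cancel (h.trans h2.symm)
    apply hne _ h1
    rw [hadd, huv', ← hadd, (by decide +kernel : ∀ w : W, w + w = 0) v, hzero]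
  have hmem' : ∀ w, E (wv b w) ∈ V := by
    obtain ⟨t0, t1, t2, t3, t4, t5⟩ := wv_basis b
    apply induct (P := fun w => E (wv b w) ∈ V)
    · intro u v hu hv
      rw [hadd]; exact mul_mem hu hv
    · rw [hzero]; exact one_mem _
    · rw [t0]; exact hbV 0
    · rw [t1]; exact hbV 1
    · rw [t2]; exact hbV 2
    · rw [t3]; exact hbV 3
    · rw [t4]; exact hbV 4
    · rw [t5]; exact hbV 5
  have hcardW : Nat.card W = 64 := by
    show Nat.card ((ZMod 2 × ZMod 2) × (ZMod 2 × ZMod 2) × (ZMod 2 × ZMod 2)) = 64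
    simp only [Nat.card_prod, Nat.card_zmod]
  have hmem : ∀ g, g ∈ V ↔ ∃ w, E (wv b w) = g := by
    let f : W → V := fun w => ⟨E (wv b w), hmem' w⟩
    have hf : Function.Injective f := fun u v h => hinj (congrArg Subtype.val h)
    have hb : Function.Bijective f := (Nat.bijective_iff_injective_and_card f).2 ⟨hf, by rw [hcardW, hV]⟩
    intro g
    constructor
    · intro hg
      obtain ⟨w, hw⟩ := hb.2 ⟨g, hg⟩
      exact ⟨w, congrArg Subtype.val hw⟩
    · rintro ⟨w, rfl⟩
      exact hmem' w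
  have h6' : ∀ i : Fin 6, E w6 * E (b i) = E (wv b (I6 i)) * E w6 := by
    intro i
    rw [← E_append, ← E_append]; exact E_eq (h6 i)
  have h2' : ∀ i : Fin 6, E w2 * E (b i) = E (wv b (I2 i)) * E w2 := by
    intro i
    rw [← E_append, ← E_append]; exact E_eq (h2 i)
  refine
    { add := hadd
      inj := hinj
      mem := hmem
      cls := ?_
      cen := hcen
      cyc := hσ
      supp := hσ'
      g_mem := norm_of hadd hmem h6'
      h_mem := norm_of hadd hmem h2'
      g_act := ?_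
      h_act := ?_ }
  · intro w hw
    have h1 := hcj w hw
    constructor
    · intro h3 h4
      have h5 : bas w = [0, 8] := by unfold bas; rw [if_pos h3]
      rw [h5] at h1
      exact nm_v (h4.trans h1.symm)
    · intro h3
      by_contra h4
      have h5 : bas w = [3] := by unfold bas; rw [if_neg h4]
      rw [h5, ← z_eq] at h1
      exact h3 h1
  · intro i
    refine ⟨J6 i, j6 i, ?_⟩
    show E w6 * E (wv b (rep i)) * (E w6)⁻¹ = E (wv b (J6 i))
    have h3 := E_eq (k6 i)
    rw [E_append, E_append] at h3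
    rw [h3, mul_inv_cancel_right]
  · intro i
    refine ⟨J2 i, j2 i, ?_⟩
    show E w2 * E (wv b (rep i)) * (E w2)⁻¹ = E (wv b (J2 i))
    have h3 := E_eq (k2 i)
    rw [E_append, E_append] at h3
    rw [h3, mul_inv_cancel_right]

end Cfsg.Agent.H6.HeWords
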